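import Mathlib

/-!
The coherence maps of the pseudofunctor `X ↦ Mod (W X)`, for a functor `W` of rings, on elements.
-/

set_option autoImplicit false
universe u

open CategoryTheory Opposite
open scoped ChangeOfRings

namespace Groth.Agent.WittDescLib

set_option maxHeartbeats 400000

section Extend

variable {A B : Type u} [CommRing A] [CommRing B] (φ : A →+* B)

/-- An elementary tensor in an extension of scalars. -/
noncomputable def et (M : ModuleCat.{u} A) (b : B) (m : M) : (ModuleCat.extendScalars φ).obj M :=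
  b ⊗ₜ[A,φ] m

theorem smul_et (M : ModuleCat.{u} A) (b b' : B) (m : M) :
    b • et φ M b' m = et φ M (b * b') m := ModuleCat.ExtendScalars.smul_tmul φ b b' m

theorem et_eq_smul (M : ModuleCat.{u} A) (b : B) (m : M) : et φ M b m = b • et φ M 1 m := by
  rw [smul_et, mul_one]

theorem et_add (M : ModuleCat.{u} A) (b : B) (m m' : M) :
    et φ M b (m + m') = et φ M b m + et φ M b m' := TensorProduct.tmul_add _ _ _

theorem et_sum (M : ModuleCat.{u} A) (b : B) {ι : Type*} (s : Finset ι) (m : ι → M) :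
    et φ M b (∑ i ∈ s, m i) = ∑ i ∈ s, et φ M b (m i) := TensorProduct.tmul_sum _ _ _

theorem et_smul (M : ModuleCat.{u} A) (b : B) (a : A) (m : M) :
    et φ M b (a • m) = et φ M (φ a * b) m := by
  let := φ.toAlgebra
  exact (TensorProduct.smul_tmul (R := A) (R' := A) a b m).symm

theorem et_zero (M : ModuleCat.{u} A) (b : B) : et φ M b 0 = 0 := TensorProduct.tmul_zero _ _

theorem map_et {M M' : ModuleCat.{u} A} (g : M ⟶ M') (b : B) (m : M) :
    (ModuleCat.extendScalars φ).map g (et φ M b m) = et φ M' b (g m) :=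
  ModuleCat.ExtendScalars.map_tmul φ g b m

theorem et_induction {M : ModuleCat.{u} A} {P : (ModuleCat.extendScalars φ).obj M → Prop} (h0 : P 0)
    (ht : ∀ b m, P (et φ M b m)) (hadd : ∀ x y, P x → P y → P (x + y))
    (z : (ModuleCat.extendScalars φ).obj M) : P z := by
  let := φ.toAlgebra
  exact TensorProduct.induction_on z h0 ht hadd

theorem hom_ext_et {M : ModuleCat.{u} A} {N : ModuleCat.{u} B}
    {α β : (ModuleCat.extendScalars φ).obj M ⟶ N}
    (h : ∀ m, α (et φ M 1 m) = β (et φ M 1 m)) : α = β := ModuleCat.ExtendScalars.hom_ext h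

variable {k : ℕ} (M : ModuleCat.{u} A)

/-- Coordinates after an extension of scalars. -/
noncomputable def coord (σ : M →ₗ[A] (Fin k → A)) :
    (ModuleCat.extendScalars φ).obj M →ₗ[B] (Fin k → B) :=
  letI := φ.toAlgebra
  ((LinearMap.pi fun i => Algebra.linearMap A B ∘ₗ LinearMap.proj i : (Fin k → A) →ₗ[A] (Fin k → B))
    ∘ₗ σ).liftBaseChange B

theorem coord_et (σ : M →ₗ[A] (Fin k → A)) (b : B) (m : M) (i : Fin k) :
    coord φ M σ (et φ M b m) i = b * φ (σ m i) := rfl

/-- An element is determined by its coordinates. -/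
theorem coord_sum (σ : M →ₗ[A] (Fin k → A)) (π : (Fin k → A) →ₗ[A] M) (hπσ : π ∘ₗ σ = LinearMap.id)
    (z : (ModuleCat.extendScalars φ).obj M) :
    ∑ i, coord φ M σ z i • et φ M 1 (π (Pi.single i 1)) = z := by
  induction z using et_induction with
  | h0 => simp
  | hadd x y hx hy => simp only [map_add, Pi.add_apply, add_smul, Finset.sum_add_distrib, hx, hy]
  | ht b m =>
    conv_rhs => rw [← LinearMap.id_apply (R := A) m, ← hπσ, LinearMap.comp_apply,
      pi_eq_sum_univ' (σ m), map_sum, et_sum]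
    refine Finset.sum_congr rfl fun i _ => ?_
    rw [coord_et, map_smul, et_smul, smul_et, mul_one, mul_comm]

theorem coord_injective (σ : M →ₗ[A] (Fin k → A)) (π : (Fin k → A) →ₗ[A] M)
    (hπσ : π ∘ₗ σ = LinearMap.id) : Function.Injective (coord φ M σ) := fun x y h => by
  rw [← coord_sum φ M σ π hπσ x, ← coord_sum φ M σ π hπσ y, h]

/-- The inverse of a comparison of composite extensions, on elements. -/
theorem inv_et {C : Type u} [CommRing C] (g : B →+* C) (ψ : A →+* C)
    (e : (ModuleCat.extendScalars ψ).obj M ≅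
      (ModuleCat.extendScalars g).obj ((ModuleCat.extendScalars φ).obj M))
    (he : ∀ m : M, e.hom (et ψ M 1 m) = et g ((ModuleCat.extendScalars φ).obj M) 1 (et φ M 1 m))
    (t : C) (w : B) (m : M) :
    e.inv (et g ((ModuleCat.extendScalars φ).obj M) t (et φ M w m)) = et ψ M (t * g w) m := by
  rw [et_eq_smul φ M w m, et_smul, et_eq_smul g, map_smul, ← he m, e.hom_inv_id_apply, ← et_eq_smul,
    mul_comm]

end Extend

theorem map₂_et {X Y : CommRingCat.{u}} (f g : LocallyDiscrete.mk X ⟶ LocallyDiscrete.mk Y)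
    (η : f ⟶ g) (M : ModuleCat.{u} X) (m : M) :
    ModuleCat.Hom.hom (R := Y)
      ((CommRingCat.moduleCatExtendScalarsPseudofunctor.{u}.map₂ η).toNatTrans.app M :
        (ModuleCat.extendScalars f.as.hom).obj M ⟶ (ModuleCat.extendScalars g.as.hom).obj M)
      (et f.as.hom M 1 m) = et g.as.hom M 1 m := by
  obtain rfl := obj_ext_of_isDiscrete η
  rw [Subsingleton.elim η (𝟙 f), PrelaxFunctor.map₂_id]
  rfl

theorem extendScalarsComp_et {A B C : Type u} [CommRing A] [CommRing B] [CommRing C] (f : A →+* B)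
    (g : B →+* C) (M : ModuleCat.{u} A) (m : M) :
    (ModuleCat.extendScalarsComp f g).hom.app M (et (g.comp f) M 1 m) =
      et g ((ModuleCat.extendScalars f).obj M) 1 (et f M 1 m) :=
  ModuleCat.extendScalarsComp_hom_app_one_tmul f g M m

variable (W : CommRingCat.{u} ⥤ CommRingCat.{u})

/-- The pseudofunctor of modules over `W X`. -/
noncomputable abbrev modPF : Pseudofunctor (LocallyDiscrete (CommRingCat.{u}ᵒᵖ)ᵒᵖ) Cat.{u, u + 1} :=
  ((unopUnop CommRingCat.{u}) ⋙ W).toPseudofunctor.comp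
    CommRingCat.moduleCatExtendScalarsPseudofunctor.{u}

theorem toLoc_cond {X Y Z : CommRingCat.{u}} (c : X ⟶ Y) (a : Y ⟶ Z) (q : X ⟶ Z) (h : c ≫ a = q) :
    c.op.op.toLoc ≫ a.op.op.toLoc = q.op.op.toLoc := by
  subst h
  rfl

variable {X Y Z : CommRingCat.{u}} (c : X ⟶ Y) (a : Y ⟶ Z) (q : X ⟶ Z) (h : c ≫ a = q)

/-- The comparison of a composite base change. -/
noncomputable def cmp (M : ModuleCat.{u} (W.obj X)) :
    (ModuleCat.extendScalars (W.map q).hom).obj M ≅
      (ModuleCat.extendScalars (W.map a).hom).obj ((ModuleCat.extendScalars (W.map c).hom).obj M) :=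
  (Cat.Hom.toNatIso ((modPF W).mapComp' c.op.op.toLoc a.op.op.toLoc q.op.op.toLoc
    (toLoc_cond c a q h))).app M

theorem cmp_et (M : ModuleCat.{u} (W.obj X)) (m : M) :
    (cmp W c a q h M).hom (et (W.map q).hom M 1 m) =
      et (W.map a).hom ((ModuleCat.extendScalars (W.map c).hom).obj M) 1 (et (W.map c).hom M 1 m) := by
  subst h
  change ModuleCat.Hom.hom (R := W.obj Z)
    (((modPF W).mapComp' c.op.op.toLoc a.op.op.toLoc
        (c.op.op.toLoc ≫ a.op.op.toLoc) rfl).hom.toNatTrans.app M) _ = _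
  rw [Pseudofunctor.mapComp'_eq_mapComp]
  simp [Pseudofunctor.comp]
  simp only [Quiver.Hom.toLoc, eqToIso.hom]
  change ModuleCat.Hom.hom ((ModuleCat.extendScalarsComp (W.map c).hom (W.map a).hom).hom.app M)
    (ModuleCat.Hom.hom _ _) = _
  refine Eq.trans (congrArg _ ?_) (extendScalarsComp_et (W.map c).hom (W.map a).hom M m)
  exact map₂_et
    ((unopUnop CommRingCat ⋙ W).toPseudofunctor.map (c.op.op.toLoc ≫ a.op.op.toLoc))
    ((unopUnop CommRingCat ⋙ W).toPseudofunctor.map c.op.op.toLoc ≫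
      (unopUnop CommRingCat ⋙ W).toPseudofunctor.map a.op.op.toLoc)
    _ M m

theorem cmp_inv_et (M : ModuleCat.{u} (W.obj X)) (t : W.obj Z) (w : W.obj Y) (m : M) :
    (cmp W c a q h M).inv (et (W.map a).hom ((ModuleCat.extendScalars (W.map c).hom).obj M) t
        (et (W.map c).hom M w m)) = et (W.map q).hom M (t * W.map a w) m :=
  inv_et _ M _ _ _ (cmp_et W c a q h M) t w m

end Groth.Agent.WittDescLib
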