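import Mathlib

/-!
An isomorphism with the canonical descent datum, with the coherence maps spelled out.
-/

set_option autoImplicit false
universe u v w t z

open CategoryTheory Opposite

namespace Groth.Agent.WittDescLib

variable {C : Type u} [Category.{v} C] (F : Pseudofunctor (LocallyDiscrete Cᵒᵖ) Cat.{w, t}) {ι : Type*}
  {S : C} {X : ι → C} (f : ∀ i, X i ⟶ S)

/-- Constructor for isomorphisms from a canonical descent datum relative to one morphism. -/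
def isoMkOfObj {X₀ : C} (f₀ : X₀ ⟶ S) {M : F.obj (.mk (op S))}
    {D : F.DescentData (fun _ : PUnit.{z + 1} => f₀)}
    (e : (F.map f₀.op.toLoc).toFunctor.obj M ≅ D.obj PUnit.unit)
    (comm : ∀ ⦃Y : C⦄ (q : Y ⟶ S) (f₁ f₂ : Y ⟶ X₀) (hf₁ : f₁ ≫ f₀ = q) (hf₂ : f₂ ≫ f₀ = q)
      (p₁ : f₀.op.toLoc ≫ f₁.op.toLoc = q.op.toLoc) (p₂ : f₀.op.toLoc ≫ f₂.op.toLoc = q.op.toLoc),
      (F.map f₁.op.toLoc).toFunctor.map e.hom ≫
          D.hom q (i₁ := PUnit.unit) (i₂ := PUnit.unit) f₁ f₂ hf₁ hf₂ =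
        ((F.mapComp' f₀.op.toLoc f₁.op.toLoc q.op.toLoc p₁).inv.toNatTrans.app M ≫
          (F.mapComp' f₀.op.toLoc f₂.op.toLoc q.op.toLoc p₂).hom.toNatTrans.app M) ≫
          (F.map f₂.op.toLoc).toFunctor.map e.hom) :
    (F.toDescentData (fun _ : PUnit.{z + 1} => f₀)).obj M ≅ D :=
  Pseudofunctor.DescentData.isoMk (fun _ => e) fun _ q i₁ i₂ f₁ f₂ hf₁ hf₂ => by
    cases i₁; cases i₂
    exact comm q f₁ f₂ hf₁ hf₂ (by subst hf₁; rfl) (by subst hf₂; rfl)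

/-- The commutation of a morphism of canonical descent data, spelled out. -/
theorem comm_ofObj {M N : F.obj (.mk (op S))}
    (g : (F.toDescentData f).obj M ⟶ (F.toDescentData f).obj N) ⦃Y : C⦄ (q : Y ⟶ S) ⦃i₁ i₂ : ι⦄
    (f₁ : Y ⟶ X i₁) (f₂ : Y ⟶ X i₂) (hf₁ : f₁ ≫ f i₁ = q) (hf₂ : f₂ ≫ f i₂ = q) :
    (F.map f₁.op.toLoc).toFunctor.map (g.hom i₁) ≫
        ((F.mapComp' (f i₁).op.toLoc f₁.op.toLoc q.op.toLoc
            (by subst hf₁; rfl)).inv.toNatTrans.app N ≫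
          (F.mapComp' (f i₂).op.toLoc f₂.op.toLoc q.op.toLoc
            (by subst hf₂; rfl)).hom.toNatTrans.app N) =
      ((F.mapComp' (f i₁).op.toLoc f₁.op.toLoc q.op.toLoc
            (by subst hf₁; rfl)).inv.toNatTrans.app M ≫
          (F.mapComp' (f i₂).op.toLoc f₂.op.toLoc q.op.toLoc
            (by subst hf₂; rfl)).hom.toNatTrans.app M) ≫
        (F.map f₂.op.toLoc).toFunctor.map (g.hom i₂) :=
  g.comm q f₁ f₂ hf₁ hf₂

/-- Composition of gluing maps over possibly different names of the map to the base. -/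
theorem hom_comp' (D : F.DescentData f) ⦃Y : C⦄ (q q' : Y ⟶ S) ⦃i₁ i₂ i₃ : ι⦄ (f₁ : Y ⟶ X i₁)
    (f₂ : Y ⟶ X i₂) (f₃ : Y ⟶ X i₃) (hf₁ : f₁ ≫ f i₁ = q) (hf₂ : f₂ ≫ f i₂ = q)
    (hf₂' : f₂ ≫ f i₂ = q') (hf₃' : f₃ ≫ f i₃ = q') (hf₃ : f₃ ≫ f i₃ = q) :
    D.hom q f₁ f₂ hf₁ hf₂ ≫ D.hom q' f₂ f₃ hf₂' hf₃' = D.hom q f₁ f₃ hf₁ hf₃ := by
  obtain rfl : q = q' := hf₂.symm.trans hf₂'
  exact D.hom_comp q f₁ f₂ f₃ hf₁ hf₂ hf₃

/-- The commutation of a morphism of canonical descent data relative to one morphism, spelled out. -/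
theorem comm_ofObj₁ {X₀ : C} (f₀ : X₀ ⟶ S) {M N : F.obj (.mk (op S))}
    (g : (F.toDescentData (fun _ : PUnit.{z + 1} => f₀)).obj M ⟶
      (F.toDescentData (fun _ : PUnit.{z + 1} => f₀)).obj N) ⦃Y : C⦄ (q : Y ⟶ S) (f₁ f₂ : Y ⟶ X₀)
    (hf₁ : f₁ ≫ f₀ = q) (hf₂ : f₂ ≫ f₀ = q) (p₁ : f₀.op.toLoc ≫ f₁.op.toLoc = q.op.toLoc)
    (p₂ : f₀.op.toLoc ≫ f₂.op.toLoc = q.op.toLoc) :
    (F.map f₁.op.toLoc).toFunctor.map (g.hom PUnit.unit) ≫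
        ((F.mapComp' f₀.op.toLoc f₁.op.toLoc q.op.toLoc p₁).inv.toNatTrans.app N ≫
          (F.mapComp' f₀.op.toLoc f₂.op.toLoc q.op.toLoc p₂).hom.toNatTrans.app N) =
      ((F.mapComp' f₀.op.toLoc f₁.op.toLoc q.op.toLoc p₁).inv.toNatTrans.app M ≫
          (F.mapComp' f₀.op.toLoc f₂.op.toLoc q.op.toLoc p₂).hom.toNatTrans.app M) ≫
        (F.map f₂.op.toLoc).toFunctor.map (g.hom PUnit.unit) :=
  g.comm q (i₁ := PUnit.unit) (i₂ := PUnit.unit) f₁ f₂ hf₁ hf₂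

end Groth.Agent.WittDescLib
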