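import Mathlib
import Groth.Agent.WittDescLib.Cat
import Groth.Agent.WittDescLib.IsoMk

/-!
Descent data of the pseudofunctor `X ↦ Mod (W X)` in coordinates.
-/

set_option autoImplicit false
universe u

open CategoryTheory Opposite

namespace Groth.Agent.WittDescLib

set_option maxHeartbeats 400000

variable (W : CommRingCat.{u} ⥤ CommRingCat.{u}) {X Y : CommRingCat.{u}} (f : X ⟶ Y)
  (D : (modPF W).DescentData (fun _ : PUnit.{u + 1} => f.op))

theorem op_cond {T : CommRingCat.{u}} (a b : Y ⟶ T) (h : f ≫ a = f ≫ b) :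
    b.op ≫ f.op = (f ≫ a).op := by rw [h]; rfl

/-- The underlying module of a descent datum. -/
abbrev dObj : ModuleCat.{u} (W.obj Y) := D.obj PUnit.unit

/-- The gluing map of a descent datum. -/
noncomputable def dhom {T : CommRingCat.{u}} (a b : Y ⟶ T) (h : f ≫ a = f ≫ b) :
    (ModuleCat.extendScalars (W.map a).hom).obj (dObj W f D) ⟶
      (ModuleCat.extendScalars (W.map b).hom).obj (dObj W f D) :=
  D.hom (f ≫ a).op (i₁ := PUnit.unit) (i₂ := PUnit.unit) a.op b.op rfl (op_cond f a b h)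

theorem dhom_self {T : CommRingCat.{u}} (a : Y ⟶ T) : dhom W f D a a rfl = 𝟙 _ :=
  D.hom_self (i := PUnit.unit) (f ≫ a).op a.op rfl

theorem dhom_comp {T : CommRingCat.{u}} (a b c : Y ⟶ T) (hab : f ≫ a = f ≫ b) (hbc : f ≫ b = f ≫ c) :
    dhom W f D a b hab ≫ dhom W f D b c hbc = dhom W f D a c (hab.trans hbc) :=
  hom_comp' (modPF W) (fun _ : PUnit.{u + 1} => f.op) D (i₁ := PUnit.unit) (i₂ := PUnit.unit) (i₃ := PUnit.unit)
    (f ≫ a).op (f ≫ b).op a.op b.op c.op rfl (op_cond f a b hab) rfl (op_cond f b c hbc)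
    (op_cond f a c (hab.trans hbc))

theorem dhom_natural {T T' : CommRingCat.{u}} (g : T ⟶ T') (a b : Y ⟶ T) (a' b' : Y ⟶ T')
    (ha : a ≫ g = a') (hb : b ≫ g = b') (h : f ≫ a = f ≫ b) (h' : f ≫ a' = f ≫ b') :
    dhom W f D a' b' h' = (cmp W a g a' ha (dObj W f D)).hom ≫
      (ModuleCat.extendScalars (W.map g).hom).map (dhom W f D a b h) ≫
        (cmp W b g b' hb (dObj W f D)).inv := by
  have hq : g.op ≫ (f ≫ a).op = (f ≫ a').op := by
    rw [← op_comp, Category.assoc, ha]
  exact (D.pullHom_hom g.op (f ≫ a).op (f ≫ a').op hq (i₁ := PUnit.unit) (i₂ := PUnit.unit) a.op b.op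
    rfl (op_cond f a b h) a'.op b'.op (by rw [← op_comp, ha]) (by rw [← op_comp, hb])).symm

variable {k : ℕ} (π : (Fin k → W.obj Y) →ₗ[W.obj Y] dObj W f D)
  (σ : dObj W f D →ₗ[W.obj Y] (Fin k → W.obj Y)) (hπσ : π ∘ₗ σ = LinearMap.id)

/-- The idempotent matrix of the underlying module. -/
noncomputable def fmat : Matrix (Fin k) (Fin k) (W.obj Y) := LinearMap.toMatrix' (σ ∘ₗ π)

/-- The gluing matrix of a descent datum. -/
noncomputable def gmat {T : CommRingCat.{u}} (a b : Y ⟶ T) (h : f ≫ a = f ≫ b) :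
    Matrix (Fin k) (Fin k) (W.obj T) :=
  Matrix.of fun i j => coord (W.map b).hom (dObj W f D) σ
    (dhom W f D a b h (et (W.map a).hom (dObj W f D) 1 (π (Pi.single j 1)))) i

theorem fmat_apply (i j : Fin k) : fmat W f D π σ i j = σ (π (Pi.single j 1)) i :=
  LinearMap.toMatrix'_apply _ _ _

theorem gmat_self {T : CommRingCat.{u}} (a : Y ⟶ T) :
    gmat W f D π σ a a rfl = (fmat W f D π σ).map (W.map a).hom := by
  refine Matrix.ext fun i j => ?_
  rw [gmat, Matrix.of_apply, dhom_self, Matrix.map_apply, fmat_apply]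
  change coord _ _ σ (et _ _ 1 _) i = _
  rw [coord_et, one_mul]

include hπσ in
theorem coord_dhom {T : CommRingCat.{u}} (a b : Y ⟶ T) (h : f ≫ a = f ≫ b)
    (z : (ModuleCat.extendScalars (W.map a).hom).obj (dObj W f D)) :
    coord (W.map b).hom _ σ (dhom W f D a b h z) =
      (gmat W f D π σ a b h).mulVec (coord (W.map a).hom _ σ z) := by
  conv_lhs => rw [← coord_sum (W.map a).hom _ σ π hπσ z]
  funext i
  simp only [map_sum, map_smul, Finset.sum_apply, Pi.smul_apply, smul_eq_mul, Matrix.mulVec,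
    dotProduct, gmat, Matrix.of_apply]
  exact Finset.sum_congr rfl fun j _ => mul_comm _ _

include hπσ in
theorem gmat_cocycle {T : CommRingCat.{u}} (a b c : Y ⟶ T) (hab : f ≫ a = f ≫ b) (hbc : f ≫ b = f ≫ c) :
    gmat W f D π σ b c hbc * gmat W f D π σ a b hab = gmat W f D π σ a c (hab.trans hbc) := by
  refine Matrix.ext fun i j => ?_
  have h1 := congrFun (coord_dhom W f D π σ hπσ b c hbc
    (dhom W f D a b hab (et (W.map a).hom (dObj W f D) 1 (π (Pi.single j 1))))) i
  rw [← ModuleCat.comp_apply, dhom_comp] at h1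
  exact h1.symm

theorem coord_cmp_inv {T T' : CommRingCat.{u}} (g : T ⟶ T') (b : Y ⟶ T) (b' : Y ⟶ T')
    (hb : b ≫ g = b') (y : (ModuleCat.extendScalars (W.map b).hom).obj (dObj W f D)) (i : Fin k) :
    coord (W.map b').hom _ σ ((cmp W b g b' hb (dObj W f D)).inv (et (W.map g).hom _ 1 y)) i =
      W.map g (coord (W.map b).hom _ σ y i) := by
  induction y using et_induction with
  | h0 => simp [et_zero]
  | hadd x y hx hy => simp only [et_add, map_add, Pi.add_apply, hx, hy]
  | ht t m =>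
    rw [cmp_inv_et, one_mul, coord_et, coord_et, map_mul, ← hb, Functor.map_comp]
    rfl

theorem gmat_natural {T T' : CommRingCat.{u}} (g : T ⟶ T') (a b : Y ⟶ T) (a' b' : Y ⟶ T')
    (ha : a ≫ g = a') (hb : b ≫ g = b') (h : f ≫ a = f ≫ b) (h' : f ≫ a' = f ≫ b') :
    gmat W f D π σ a' b' h' = (gmat W f D π σ a b h).map (W.map g).hom := by
  refine Matrix.ext fun i j => ?_
  rw [Matrix.map_apply, gmat, gmat, Matrix.of_apply, Matrix.of_apply,
    dhom_natural W f D g a b a' b' ha hb h h']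
  simp only [ModuleCat.comp_apply]
  rw [cmp_et, map_et, coord_cmp_inv]

end Groth.Agent.WittDescLib
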