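import Mathlib
import Groth.Agent.WittDescLib.Cat
import Groth.Agent.WittDescLib.DescCat
import Groth.Agent.WittDescLib.IsoMk

/-!
A trivialization of the gluing matrix gives an isomorphism with a canonical descent datum.
-/

set_option autoImplicit false
universe u

open CategoryTheory Opposite

namespace Groth.Agent.WittDescLib

set_option maxHeartbeats 400000

section Base

variable {A B : Type u} [CommRing A] [CommRing B] (φ : A →+* B) {P : ModuleCat.{u} B} {k m : ℕ}

/-- The module of an idempotent matrix becomes isomorphic to `P`. -/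
theorem exists_base_iso (π : (Fin k → B) →ₗ[B] P) (σ : P →ₗ[B] (Fin k → B))
    (hπσ : π ∘ₗ σ = LinearMap.id) (e : Matrix (Fin m) (Fin m) A) (U : Matrix (Fin k) (Fin m) B)
    (V : Matrix (Fin m) (Fin k) B) (he : e * e = e) (hUV : U * V = LinearMap.toMatrix' (σ ∘ₗ π))
    (hVU : V * U = e.map φ) (hUe : U * e.map φ = U) :
    ∃ (M : ModuleCat.{u} A) (s : M →ₗ[A] (Fin m → A)),
      Module.Finite A M ∧ Module.Projective A M ∧
      ∃ i₀ : (ModuleCat.extendScalars φ).obj M ≅ P,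
        ∀ v, σ (i₀.hom (et φ M 1 v)) = U.mulVec (fun j => φ (s v j)) := by
  let l := Matrix.toLin' e
  let Mo : ModuleCat.{u} A := ModuleCat.of A (LinearMap.range l)
  let r : (Fin m → A) →ₗ[A] Mo := l.rangeRestrict
  let s : Mo →ₗ[A] (Fin m → A) := (LinearMap.range l).subtype
  have hrs : r ∘ₗ s = LinearMap.id := LinearMap.ext fun ⟨v, w, hw⟩ => Subtype.ext (by
    change l v = v
    rw [← hw, ← LinearMap.comp_apply, ← Matrix.toLin'_mul, he])
  have hσπ : ∀ v, (LinearMap.toMatrix' (σ ∘ₗ π)).mulVec v = σ (π v) := fun v => by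
    rw [← Matrix.toLin'_apply, Matrix.toLin'_toMatrix']
    rfl
  have hfix : ∀ x : P, π (σ x) = x := fun x => LinearMap.congr_fun hπσ x
  let θ : (ModuleCat.extendScalars φ).obj Mo →ₗ[B] P :=
    (π ∘ₗ Matrix.mulVecLin U) ∘ₗ coord φ Mo s
  let ξ : P →ₗ[B] (ModuleCat.extendScalars φ).obj Mo :=
    Fintype.linearCombination B (fun i => et φ Mo 1 (r (Pi.single i 1))) ∘ₗ Matrix.mulVecLin V ∘ₗ σ
  have hcoord : ∀ z, (e.map φ).mulVec (coord φ Mo s z) = coord φ Mo s z := fun z => by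
    induction z using et_induction with
    | h0 => simp
    | hadd x y hx hy => rw [map_add, Matrix.mulVec_add, hx, hy]
    | ht b v =>
      funext i
      have hv : e.mulVec (s v) = s v := by
        rw [← Matrix.toLin'_apply]
        exact congrArg s (LinearMap.congr_fun hrs v)
      conv_rhs => rw [coord_et, ← hv]
      simp only [Matrix.mulVec, dotProduct, coord_et, Matrix.map_apply, map_sum, map_mul,
        Finset.mul_sum]
      exact Finset.sum_congr rfl fun j _ => by ring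
  have hξθ : ∀ z, ξ (θ z) = z := fun z => by
    simp only [ξ, θ, LinearMap.comp_apply, Matrix.mulVecLin_apply, ← hσπ, Matrix.mulVec_mulVec,
      ← hUV]
    rw [show V * (U * V * U) = e.map φ by rw [Matrix.mul_assoc U V U, hVU, hUe, hVU], hcoord,
      Fintype.linearCombination_apply]
    exact coord_sum φ Mo s r hrs z
  have hθξ : ∀ x, θ (ξ x) = x := fun x => by
    have hc : coord φ Mo s (ξ x) = (e.map φ).mulVec (V.mulVec (σ x)) := by
      funext i
      simp only [ξ, LinearMap.comp_apply, Fintype.linearCombination_apply, map_sum, map_smul,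
        Finset.sum_apply, Pi.smul_apply, smul_eq_mul, coord_et, one_mul, Matrix.mulVecLin_apply]
      rw [Matrix.mulVec, dotProduct]
      refine Finset.sum_congr rfl fun j _ => ?_
      rw [mul_comm, Matrix.map_apply]
      congr 2
      change e.mulVec (Pi.single j 1) i = e i j
      simp
    simp only [θ, LinearMap.comp_apply, Matrix.mulVecLin_apply, hc, Matrix.mulVec_mulVec]
    rw [← Matrix.mul_assoc, hUe, hUV, hσπ, hfix, hfix]
  refine ⟨Mo, s, Module.Finite.of_surjective r l.surjective_rangeRestrict,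
    Module.Projective.of_split s r hrs,
    (LinearEquiv.ofLinearMap θ ξ (LinearMap.ext hθξ) (LinearMap.ext hξθ)).toModuleIso, fun v => ?_⟩
  change σ (θ (et φ Mo 1 v)) = _
  simp only [θ, LinearMap.comp_apply, Matrix.mulVecLin_apply, ← hσπ, Matrix.mulVec_mulVec, ← hUV]
  rw [Matrix.mul_assoc, hVU, hUe]
  congr 1
  funext j
  rw [coord_et, one_mul]

/-- Commutation with the gluing, for abstract rings. -/
theorem comm_abstract {A B C : Type u} [CommRing A] [CommRing B] [CommRing C] {φ : A →+* B}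
    {ga gb : B →+* C} {ψ : A →+* C} {M : ModuleCat.{u} A} {P : ModuleCat.{u} B}
    (i₀ : (ModuleCat.extendScalars φ).obj M ≅ P)
    (d : (ModuleCat.extendScalars ga).obj P ⟶ (ModuleCat.extendScalars gb).obj P)
    (e : (ModuleCat.extendScalars ψ).obj M ≅
      (ModuleCat.extendScalars ga).obj ((ModuleCat.extendScalars φ).obj M))
    (e' : (ModuleCat.extendScalars ψ).obj M ≅
      (ModuleCat.extendScalars gb).obj ((ModuleCat.extendScalars φ).obj M))
    (he : ∀ m : M, e.hom (et ψ M 1 m) = et ga ((ModuleCat.extendScalars φ).obj M) 1 (et φ M 1 m))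
    (he' : ∀ m : M, e'.hom (et ψ M 1 m) = et gb ((ModuleCat.extendScalars φ).obj M) 1 (et φ M 1 m))
    (hd : ∀ v, d (et ga P 1 (i₀.hom (et φ M 1 v))) = et gb P 1 (i₀.hom (et φ M 1 v))) :
    (ModuleCat.extendScalars ga).map i₀.hom ≫ d =
      (e.inv ≫ e'.hom) ≫ (ModuleCat.extendScalars gb).map i₀.hom := by
  refine hom_ext_et _ fun z => ?_
  simp only [ModuleCat.comp_apply, map_et]
  induction z using et_induction with
  | h0 => simp [et_zero]
  | hadd x y hx hy => simp only [et_add, map_add, hx, hy]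
  | ht w v =>
    rw [inv_et φ M ga ψ e he, one_mul, et_eq_smul ψ, map_smul, map_smul, he', map_et,
      et_eq_smul φ M w v, map_smul, et_smul, mul_one, et_eq_smul ga, map_smul, hd]

end Base

variable (W : CommRingCat.{u} ⥤ CommRingCat.{u}) {X Y : CommRingCat.{u}} (f : X ⟶ Y)
  (D : (modPF W).DescentData (fun _ : PUnit.{u + 1} => f.op))
  {k : ℕ} (π : (Fin k → W.obj Y) →ₗ[W.obj Y] dObj W f D)
  (σ : dObj W f D →ₗ[W.obj Y] (Fin k → W.obj Y)) (hπσ : π ∘ₗ σ = LinearMap.id)
  {m : ℕ} (U : Matrix (Fin k) (Fin m) (W.obj Y)) {M : ModuleCat.{u} (W.obj X)}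
  (s : M →ₗ[W.obj X] (Fin m → W.obj X))
  (i₀ : (ModuleCat.extendScalars (W.map f).hom).obj M ≅ dObj W f D)
  (hi₀ : ∀ v, σ (i₀.hom (et (W.map f).hom M 1 v)) = U.mulVec (fun j => (W.map f).hom (s v j)))

include hπσ hi₀ in
theorem dhom_generator {T : CommRingCat.{u}} (a b : Y ⟶ T) (h : f ≫ a = f ≫ b)
    (hG : gmat W f D π σ a b h * U.map (W.map a).hom = U.map (W.map b).hom) (v : M) :
    dhom W f D a b h (et (W.map a).hom (dObj W f D) 1 (i₀.hom (et (W.map f).hom M 1 v))) =
      et (W.map b).hom (dObj W f D) 1 (i₀.hom (et (W.map f).hom M 1 v)) := by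
  refine coord_injective (W.map b).hom _ σ π hπσ ?_
  rw [coord_dhom W f D π σ hπσ]
  have hc : ∀ (c : Y ⟶ T), coord (W.map c).hom (dObj W f D) σ
      (et (W.map c).hom (dObj W f D) 1 (i₀.hom (et (W.map f).hom M 1 v))) =
      (U.map (W.map c).hom).mulVec (fun j => W.map (f ≫ c) (s v j)) := fun c => by
    funext l
    rw [coord_et, one_mul, hi₀]
    simp only [Matrix.mulVec, dotProduct, Matrix.map_apply, map_sum, map_mul, Functor.map_comp]
    rfl
  rw [hc, hc, Matrix.mulVec_mulVec, hG, h]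

include hπσ hi₀ in
theorem iso_comm {T : CommRingCat.{u}} (a b : Y ⟶ T) (q : X ⟶ T) (ha : f ≫ a = q) (hb : f ≫ b = q)
    (hG : gmat W f D π σ a b (ha.trans hb.symm) * U.map (W.map a).hom = U.map (W.map b).hom) :
    (ModuleCat.extendScalars (W.map a).hom).map i₀.hom ≫ dhom W f D a b (ha.trans hb.symm) =
      ((cmp W f a q ha M).inv ≫ (cmp W f b q hb M).hom) ≫
        (ModuleCat.extendScalars (W.map b).hom).map i₀.hom :=
  comm_abstract i₀ (dhom W f D a b (ha.trans hb.symm)) (cmp W f a q ha M) (cmp W f b q hb M)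
    (cmp_et W f a q ha M) (cmp_et W f b q hb M)
    (dhom_generator W f D π σ hπσ U s i₀ hi₀ a b (ha.trans hb.symm) hG)

theorem dhom_eq {T : CommRingCat.{u}} (a b : Y ⟶ T) (q : X ⟶ T) (ha : f ≫ a = q) (hb : f ≫ b = q)
    (p₁ : a.op ≫ f.op = q.op) (p₂ : b.op ≫ f.op = q.op) :
    D.hom q.op (i₁ := PUnit.unit) (i₂ := PUnit.unit) a.op b.op p₁ p₂ =
      dhom W f D a b (ha.trans hb.symm) := by
  subst ha
  rfl

section Raw

variable {T : CommRingCat.{u}} (a b : Y ⟶ T) (q : X ⟶ T) (ha : f ≫ a = q) (hb : f ≫ b = q)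
  (p₁ : a.op ≫ f.op = q.op) (p₂ : b.op ≫ f.op = q.op)

omit hπσ hi₀ in
theorem iso_comm_left :
    (ModuleCat.extendScalars (W.map a).hom).map i₀.hom ≫ dhom W f D a b (ha.trans hb.symm) =
    ((modPF W).map a.op.op.toLoc).toFunctor.map i₀.hom ≫
      D.hom q.op (i₁ := PUnit.unit) (i₂ := PUnit.unit) a.op b.op p₁ p₂ := by
  rw [dhom_eq W f D a b q ha hb p₁ p₂]
  rfl

omit hπσ hi₀ in
theorem iso_comm_right :
    ((cmp W f a q ha M).inv ≫ (cmp W f b q hb M).hom) ≫
        (ModuleCat.extendScalars (W.map b).hom).map i₀.hom =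
    (((modPF W).mapComp' f.op.op.toLoc a.op.op.toLoc q.op.op.toLoc
        (toLoc_cond f a q ha)).inv.toNatTrans.app M ≫
      ((modPF W).mapComp' f.op.op.toLoc b.op.op.toLoc q.op.op.toLoc
        (toLoc_cond f b q hb)).hom.toNatTrans.app M) ≫
      ((modPF W).map b.op.op.toLoc).toFunctor.map i₀.hom := rfl

include hπσ hi₀ in
theorem iso_comm_raw
    (hG : gmat W f D π σ a b (ha.trans hb.symm) * U.map (W.map a).hom = U.map (W.map b).hom) :
    ((modPF W).map a.op.op.toLoc).toFunctor.map i₀.hom ≫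
      D.hom q.op (i₁ := PUnit.unit) (i₂ := PUnit.unit) a.op b.op p₁ p₂ =
    (((modPF W).mapComp' f.op.op.toLoc a.op.op.toLoc q.op.op.toLoc
        (toLoc_cond f a q ha)).inv.toNatTrans.app M ≫
      ((modPF W).mapComp' f.op.op.toLoc b.op.op.toLoc q.op.op.toLoc
        (toLoc_cond f b q hb)).hom.toNatTrans.app M) ≫
      ((modPF W).map b.op.op.toLoc).toFunctor.map i₀.hom :=
  (iso_comm_left W f D i₀ a b q ha hb p₁ p₂).symm.trans
    ((iso_comm W f D π σ hπσ U s i₀ hi₀ a b q ha hb hG).trans (iso_comm_right W f D i₀ a b q ha hb))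

end Raw

include hπσ hi₀ in
theorem exists_datum_iso
    (hG : ∀ (T : CommRingCat.{u}) (a b : Y ⟶ T) (h : f ≫ a = f ≫ b),
      gmat W f D π σ a b h * U.map (W.map a).hom = U.map (W.map b).hom) :
    Nonempty (((modPF W).toDescentData (fun _ : PUnit.{u + 1} => f.op)).obj M ≅ D) := by
  refine ⟨isoMkOfObj (modPF W) f.op i₀ ?_⟩
  rintro ⟨T⟩ q a b hf₁ hf₂ p₁ p₂
  obtain ⟨a, rfl⟩ : ∃ a' : Y ⟶ T, a'.op = a := ⟨a.unop, rfl⟩
  obtain ⟨b, rfl⟩ : ∃ b' : Y ⟶ T, b'.op = b := ⟨b.unop, rfl⟩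
  obtain ⟨q, rfl⟩ : ∃ q' : X ⟶ T, q'.op = q := ⟨q.unop, rfl⟩
  have ha : f ≫ a = q := Quiver.Hom.op_inj hf₁
  have hb : f ≫ b = q := Quiver.Hom.op_inj hf₂
  exact iso_comm_raw W f D π σ hπσ U s i₀ hi₀ a b q ha hb hf₁ hf₂ (hG T a b (ha.trans hb.symm))

end Groth.Agent.WittDescLib
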