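import Mathlib

/-!
First Amitsur cohomology of `p ^ i / p ^ (i + 1)` vanishes along a faithfully flat map.
-/

set_option autoImplicit false
universe u

open TensorProduct

namespace Groth.Agent.WittDescLib

variable (R S : Type u) [CommRing R] [CommRing S] [Algebra R S]

/-- The three maps from the double to the triple tensor product. -/
noncomputable def g12 : S ⊗[R] S →ₐ[R] S ⊗[R] (S ⊗[R] S) :=
  Algebra.TensorProduct.map (AlgHom.id R S) Algebra.TensorProduct.includeLeft

noncomputable def g23 : S ⊗[R] S →ₐ[R] S ⊗[R] (S ⊗[R] S) := Algebra.TensorProduct.includeRight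

noncomputable def g13 : S ⊗[R] S →ₐ[R] S ⊗[R] (S ⊗[R] S) :=
  Algebra.TensorProduct.map (AlgHom.id R S) Algebra.TensorProduct.includeRight

@[simp] theorem g12_tmul (x y : S) : g12 R S (x ⊗ₜ y) = x ⊗ₜ (y ⊗ₜ 1) := rfl
@[simp] theorem g23_tmul (x y : S) : g23 R S (x ⊗ₜ y) = 1 ⊗ₜ (x ⊗ₜ y) := rfl
@[simp] theorem g13_tmul (x y : S) : g13 R S (x ⊗ₜ y) = x ⊗ₜ (1 ⊗ₜ y) := rfl

noncomputable def d0 : S →ₗ[R] S ⊗[R] S :=
  (Algebra.TensorProduct.includeRight : S →ₐ[R] S ⊗[R] S).toLinearMap -
    (Algebra.TensorProduct.includeLeft : S →ₐ[R] S ⊗[R] S).toLinearMap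

noncomputable def d1 : S ⊗[R] S →ₗ[R] S ⊗[R] (S ⊗[R] S) :=
  (g12 R S).toLinearMap + (g23 R S).toLinearMap - (g13 R S).toLinearMap

theorem d0_apply (y : S) : d0 R S y = 1 ⊗ₜ y - y ⊗ₜ 1 := rfl

theorem d1_apply (z : S ⊗[R] S) : d1 R S z = g12 R S z + g23 R S z - g13 R S z := rfl

/-- The contraction after a base change. -/
noncomputable def contr (M X : Type u) [AddCommGroup M] [Module R M] [AddCommGroup X] [Module R X] :
    S ⊗[R] (M ⊗[R] (S ⊗[R] X)) →ₗ[R] S ⊗[R] (M ⊗[R] X) :=
  (LinearMap.mul' R S).rTensor (M ⊗[R] X) ∘ₗ (TensorProduct.assoc R S S (M ⊗[R] X)).symm.toLinearMap ∘ₗ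
    (TensorProduct.leftComm R M S X).toLinearMap.lTensor S

@[simp] theorem contr_tmul {M X : Type u} [AddCommGroup M] [Module R M] [AddCommGroup X] [Module R X]
    (a : S) (m : M) (x : S) (y : X) :
    contr R S M X (a ⊗ₜ (m ⊗ₜ (x ⊗ₜ y))) = (a * x) ⊗ₜ (m ⊗ₜ y) := by
  simp [contr]

theorem amitsur_exact [Module.FaithfullyFlat R S] (M : Type u) [AddCommGroup M] [Module R M] :
    Function.Exact ((d0 R S).lTensor M) ((d1 R S).lTensor M) := by
  rw [← Module.FaithfullyFlat.lTensor_exact_iff_exact R S]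
  have hd : d1 R S ∘ₗ d0 R S = 0 := LinearMap.ext fun y => by
    simp only [LinearMap.comp_apply, d0_apply, map_sub, d1_apply, g12_tmul, g23_tmul, g13_tmul,
      LinearMap.zero_apply]
    abel
  intro z
  constructor
  · intro hz
    refine ⟨contr R S M S z, ?_⟩
    have key : ∀ z, contr R S M (S ⊗[R] S) (((d1 R S).lTensor M).lTensor S z) +
        ((d0 R S).lTensor M).lTensor S (contr R S M S z) = z := by
      refine LinearMap.congr_fun (f := contr R S M (S ⊗[R] S) ∘ₗ ((d1 R S).lTensor M).lTensor S +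
        ((d0 R S).lTensor M).lTensor S ∘ₗ contr R S M S) (g := LinearMap.id) ?_
      refine TensorProduct.ext' fun a w => ?_
      induction w using TensorProduct.induction_on with
      | zero => simp
      | add u v hu hv => rw [tmul_add, map_add, map_add, hu, hv]
      | tmul m q =>
        induction q using TensorProduct.induction_on with
        | zero => simp
        | add u v hu hv => rw [tmul_add, tmul_add, map_add, map_add, hu, hv]
        | tmul x y =>
          simp only [LinearMap.add_apply, LinearMap.comp_apply, LinearMap.lTensor_tmul, contr_tmul,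
            LinearMap.id_apply, d1_apply, d0_apply, g12_tmul, g23_tmul, g13_tmul, tmul_add, tmul_sub,
            map_add, map_sub, mul_one]
          abel
    have h := key z
    rwa [hz, map_zero, zero_add] at h
  · rintro ⟨w, rfl⟩
    rw [← LinearMap.comp_apply, ← LinearMap.lTensor_comp, ← LinearMap.lTensor_comp, hd,
      LinearMap.lTensor_zero, LinearMap.lTensor_zero, LinearMap.zero_apply]

variable {R}

theorem one_tmul_eq_zero (J : Ideal R) {T : Type u} [CommRing T] [Algebra R T] {x : T} :
    (1 : R ⧸ J) ⊗ₜ[R] x = 0 ↔ x ∈ J.map (algebraMap R T) := by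
  rw [← LinearEquiv.map_eq_zero_iff (TensorProduct.quotTensorEquivQuotSMul T J),
    show (1 : R ⧸ J) = Ideal.Quotient.mk J 1 from rfl, TensorProduct.quotTensorEquivQuotSMul_mk_tmul,
    one_smul, Submodule.Quotient.mk_eq_zero, Ideal.smul_top_eq_map, Submodule.restrictScalars_mem]

/-- Multiples of `p ^ (i + 1)` among multiples of `p ^ i` in a flat algebra. -/
theorem pow_mul_mem {T : Type u} [CommRing T] [Algebra R T] [Module.Flat R T] (p : R) (i : ℕ) (z : T) :
    algebraMap R T p ^ i * z ∈ Ideal.span {algebraMap R T p ^ (i + 1)} ↔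
      z ∈ (Ideal.span {p} ⊔ LinearMap.ker (LinearMap.mulLeft R (p ^ i))).map (algebraMap R T) := by
  constructor
  · intro h
    obtain ⟨w, hw⟩ := Ideal.mem_span_singleton'.1 h
    have hex := Module.Flat.lTensor_exact T
      (LinearMap.exact_subtype_ker_map (LinearMap.mulLeft R (p ^ i)))
    obtain ⟨v, hv⟩ := (hex ((z - w * algebraMap R T p) ⊗ₜ 1)).1 (by
      apply (TensorProduct.rid R T).injective
      simp only [LinearMap.lTensor_tmul, LinearMap.mulLeft_apply, mul_one, TensorProduct.rid_tmul,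
        Algebra.smul_def, map_pow, map_zero]
      linear_combination -hw)
    have hmem : z - w * algebraMap R T p ∈
        Ideal.map (algebraMap R T) (LinearMap.ker (LinearMap.mulLeft R (p ^ i))) := by
      rw [← one_smul R (z - w * algebraMap R T p), ← TensorProduct.rid_tmul _ (1 : R), ← hv]
      clear hv
      induction v using TensorProduct.induction_on with
      | zero => simp
      | add a b ha hb => rw [map_add, map_add]; exact add_mem ha hb
      | tmul t r =>
        rw [LinearMap.lTensor_tmul, TensorProduct.rid_tmul, Algebra.smul_def, Submodule.subtype_apply]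
        exact Ideal.mul_mem_right _ _ (Ideal.mem_map_of_mem _ r.2)
    rw [show z = (z - w * algebraMap R T p) + w * algebraMap R T p by ring]
    exact add_mem (Ideal.map_mono le_sup_right hmem)
      (Ideal.map_mono le_sup_left (Ideal.mul_mem_left _ _
        (Ideal.mem_map_of_mem _ (Ideal.mem_span_singleton_self p))))
  · intro h
    have : Ideal.map (algebraMap R T) (Ideal.span {p} ⊔ LinearMap.ker (LinearMap.mulLeft R (p ^ i))) ≤
        Submodule.comap (LinearMap.mulLeft T (algebraMap R T p ^ i))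
          (Ideal.span {algebraMap R T p ^ (i + 1)}) := by
      rw [Ideal.map_le_iff_le_comap]
      refine sup_le ((Ideal.span_singleton_le_iff_mem _).2 ?_) fun r hr => ?_
      · change algebraMap R T p ^ i * algebraMap R T p ∈ Ideal.span {algebraMap R T p ^ (i + 1)}
        rw [← pow_succ]
        exact Ideal.mem_span_singleton_self _
      · change algebraMap R T p ^ i * algebraMap R T r ∈ Ideal.span {algebraMap R T p ^ (i + 1)}
        rw [← map_pow _ p i, ← map_mul, show p ^ i * r = 0 from hr, map_zero]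
        exact zero_mem _
    exact this h

/-- An additive one-cocycle with values in `p ^ i / p ^ (i + 1)` is a coboundary. -/
theorem exists_coboundary [Module.FaithfullyFlat R S] (p : R) (i : ℕ) (c : S ⊗[R] S)
    (hc : c ∈ Ideal.span {algebraMap R (S ⊗[R] S) p ^ i})
    (hd : d1 R S c ∈ Ideal.span {algebraMap R (S ⊗[R] (S ⊗[R] S)) p ^ (i + 1)}) :
    ∃ y ∈ Ideal.span {algebraMap R S p ^ i},
      c - d0 R S y ∈ Ideal.span {algebraMap R (S ⊗[R] S) p ^ (i + 1)} := by
  obtain ⟨c', rfl⟩ := Ideal.mem_span_singleton'.1 hc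
  let J := Ideal.span {p} ⊔ LinearMap.ker (LinearMap.mulLeft R (p ^ i))
  have hmul : ∀ {X Y : Type u} [CommRing X] [Algebra R X] [CommRing Y] [Algebra R Y] (l : X →ₗ[R] Y)
      (x : X), l (x * algebraMap R X p ^ i) = algebraMap R Y p ^ i * l x := by
    intro X Y _ _ _ _ l x
    rw [mul_comm, ← map_pow, ← Algebra.smul_def, map_smul, Algebra.smul_def, map_pow]
  rw [hmul, pow_mul_mem, ← one_tmul_eq_zero] at hd
  obtain ⟨w, hw⟩ := (amitsur_exact R S (R ⧸ J) ((1 : R ⧸ J) ⊗ₜ c')).1 (by
    rw [LinearMap.lTensor_tmul]; exact hd)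
  obtain ⟨y, rfl⟩ : ∃ y, (1 : R ⧸ J) ⊗ₜ[R] y = w := TensorProduct.mk_surjective R S (R ⧸ J)
    Ideal.Quotient.mk_surjective w
  refine ⟨y * algebraMap R S p ^ i, Ideal.mul_mem_left _ _ (Ideal.mem_span_singleton_self _), ?_⟩
  rw [LinearMap.lTensor_tmul] at hw
  rw [hmul, mul_comm c', ← mul_sub, pow_mul_mem, ← one_tmul_eq_zero, tmul_sub, hw, sub_self]

end Groth.Agent.WittDescLib
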