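import Mathlib
import Groth.Agent.FiltProjLib.Lift

/-!
Inverses between corners of matrix rings modulo nilpotents.
-/

set_option autoImplicit false
universe u

open Matrix

namespace Groth.Agent.WittDescLib

variable {R : Type u} [CommRing R] {k m : ℕ}

theorem exists_left_inv {g : Matrix (Fin m) (Fin m) R} {U : Matrix (Fin k) (Fin m) R}
    {V : Matrix (Fin m) (Fin k) R} (hg : g * g = g) (hUg : U * g = U) (hgV : g * V = V)
    (hnil : ∀ i j, IsNilpotent ((g - V * U) i j)) :
    ∃ Z : Matrix (Fin m) (Fin m) R, g * Z = Z ∧ Z * g = Z ∧ Z * (V * U) = g := by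
  obtain ⟨r, hr⟩ := Groth.Agent.FiltProjLib.matrix_isNilpotent _ hnil
  let N := g - V * U
  have hNg : N * g = N := by
    simp only [N, Matrix.sub_mul, hg, Matrix.mul_assoc, hUg]
  have hgN : g * N = N := by
    simp only [N, Matrix.mul_sub, hg, ← Matrix.mul_assoc, hgV]
  have hcomm : Commute g N := hgN.trans hNg.symm
  let S := ∑ i ∈ Finset.range r, N ^ i
  have hS : Commute g S := Commute.sum_right _ _ _ fun i _ => hcomm.pow_right i
  refine ⟨S * g, ?_, ?_, ?_⟩
  · rw [← Matrix.mul_assoc, show g * S = S * g from hS, Matrix.mul_assoc, hg]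
  · rw [Matrix.mul_assoc, hg]
  · have h : V * U = (1 - N) * g := by
      rw [Matrix.sub_mul, Matrix.one_mul, hNg, sub_sub_cancel]
    have hc : (1 - N) * g = g * (1 - N) :=
      ((Commute.one_right g).sub_right hcomm).symm
    rw [Matrix.mul_assoc, h, hc, ← Matrix.mul_assoc g g, hg, ← hc, ← Matrix.mul_assoc,
      geom_sum_mul_neg, show N ^ r = 0 from hr, sub_zero, Matrix.one_mul]

/-- An inverse between two corners which exists modulo nilpotents. -/
theorem exists_inv {f : Matrix (Fin k) (Fin k) R} {g : Matrix (Fin m) (Fin m) R}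
    {U : Matrix (Fin k) (Fin m) R} {V : Matrix (Fin m) (Fin k) R} (hf : f * f = f) (hg : g * g = g)
    (hfU : f * U = U) (hUg : U * g = U) (hgV : g * V = V) (hVf : V * f = V)
    (hgnil : ∀ i j, IsNilpotent ((g - V * U) i j)) (hfnil : ∀ i j, IsNilpotent ((f - U * V) i j)) :
    ∃ V' : Matrix (Fin m) (Fin k) R, V' * U = g ∧ U * V' = f ∧ g * V' = V' ∧ V' * f = V' := by
  obtain ⟨Z, hgZ, hZg, hZ⟩ := exists_left_inv hg hUg hgV hgnil
  have hVU : Z * V * U = g := by rw [Matrix.mul_assoc, hZ]
  refine ⟨Z * V, hVU, ?_, by rw [← Matrix.mul_assoc, hgZ], by rw [Matrix.mul_assoc, hVf]⟩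
  let P := U * (Z * V)
  have hfP : f * P = P := by simp only [P, ← Matrix.mul_assoc, hfU]
  have hPf : P * f = P := by simp only [P, Matrix.mul_assoc, hVf]
  have hPP : P * P = P := by
    calc P * P = U * (Z * V * U) * (Z * V) := by simp only [P, Matrix.mul_assoc]
      _ = P := by rw [hVU, hUg]
  have hidem : IsIdempotentElem (f - P) := by
    change (f - P) * (f - P) = f - P
    rw [Matrix.sub_mul, Matrix.mul_sub, Matrix.mul_sub, hf, hfP, hPf, hPP]
    abel
  have heq : f - P = (f - U * V) - U * (Z * (g - V * U)) * V := by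
    rw [Matrix.mul_sub Z, hZ, hZg, Matrix.mul_sub U, hUg, Matrix.sub_mul]
    simp only [P, Matrix.mul_assoc]
    abel
  obtain ⟨r, hr⟩ : IsNilpotent (f - P) := by
    refine Groth.Agent.FiltProjLib.matrix_isNilpotent _ fun i j => ?_
    have hI : ∀ i j, (g - V * U) i j ∈ nilradical R := fun i j => hgnil i j
    rw [heq, Matrix.sub_apply, ← mem_nilradical]
    refine sub_mem (mem_nilradical.2 (hfnil i j)) ?_
    simp only [Matrix.mul_apply]
    exact Ideal.sum_mem _ fun l _ => Ideal.mul_mem_right _ _ (Ideal.sum_mem _ fun l' _ =>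
      Ideal.mul_mem_left _ _ (Ideal.sum_mem _ fun l'' _ => Ideal.mul_mem_left _ _ (hI l'' l)))
  exact (sub_eq_zero.1 (hidem.eq_zero_of_isNilpotent ⟨r, hr⟩)).symm

end Groth.Agent.WittDescLib
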