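import Mathlib
import Groth.Prelude.Def_WittGrp

/-!
The double filtration `E i j = {w | all components in p^i, the first j in p^(i+1)}` of `W_n(T)`.
-/

set_option autoImplicit false
universe u

namespace Groth.Agent.WittDescLib

open WittVector

variable (p : ℕ) [Fact p.Prime] {n : ℕ} {T T' : Type u} [CommRing T] [CommRing T']

/-- Reduction of components modulo `p ^ i`. -/
noncomputable abbrev red (i : ℕ) :
    TruncatedWittVector p n T →+* TruncatedWittVector p n (T ⧸ Ideal.span {(p : T) ^ i}) :=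
  WittGrp.truncMap p n (Ideal.Quotient.mk _)

/-- The ideal of vectors with all components in `p^i T` and the first `j` in `p^(i+1) T`. -/
noncomputable def E (n : ℕ) (T : Type u) [CommRing T] (i j : ℕ) : Ideal (TruncatedWittVector p n T) :=
  RingHom.ker (red p (n := n) (T := T) i) ⊓
    RingHom.ker ((TruncatedWittVector.truncate (min_le_right j n)).comp (red p (n := n) (T := T) (i + 1)))

theorem mem_E {i j : ℕ} {w : TruncatedWittVector p n T} :
    w ∈ E p n T i j ↔ ∀ l : Fin n, w.coeff l ∈ Ideal.span {(p : T) ^ i} ∧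
      ((l : ℕ) < j → w.coeff l ∈ Ideal.span {(p : T) ^ (i + 1)}) := by
  simp only [E, Submodule.mem_inf, RingHom.mem_ker, RingHom.comp_apply, TruncatedWittVector.ext_iff,
    TruncatedWittVector.coeff_zero, TruncatedWittVector.coeff_truncate, WittGrp.coeff_truncMap,
    Ideal.Quotient.eq_zero_iff_mem]
  constructor
  · rintro ⟨h1, h2⟩ l
    exact ⟨h1 l, fun hl => h2 ⟨l, lt_min hl l.isLt⟩⟩
  · intro h
    exact ⟨fun l => (h l).1, fun l => (h _).2 (lt_of_lt_of_le l.isLt (min_le_left j n))⟩

theorem E_mono_succ (i j : ℕ) : E p n T i (j + 1) ≤ E p n T i j := fun w hw =>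
  (mem_E p).2 fun l => ⟨((mem_E p).1 hw l).1, fun hl => ((mem_E p).1 hw l).2 (Nat.lt_succ_of_lt hl)⟩

theorem E_next (i : ℕ) : E p n T i n ≤ E p n T (i + 1) 0 := fun w hw =>
  (mem_E p).2 fun l => ⟨((mem_E p).1 hw l).2 l.isLt, fun hl => absurd hl (Nat.not_lt_zero _)⟩

theorem E_eq_bot {N : ℕ} (hN : (p : T) ^ N = 0) (j : ℕ) : E p n T N j = ⊥ :=
  (Submodule.eq_bot_iff _).2 fun w hw => TruncatedWittVector.ext fun l => by
    have h := ((mem_E p).1 hw l).1
    rw [hN, Ideal.mem_span_singleton, zero_dvd_iff] at h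
    rw [TruncatedWittVector.coeff_zero, h]

theorem map_mem_span (f : T →+* T') {x : T} {i : ℕ} (hx : x ∈ Ideal.span {(p : T) ^ i}) :
    f x ∈ Ideal.span {(p : T') ^ i} := by
  obtain ⟨c, rfl⟩ := Ideal.mem_span_singleton'.1 hx
  rw [map_mul, map_pow, map_natCast]
  exact Ideal.mul_mem_left _ _ (Ideal.mem_span_singleton_self _)

theorem map_mem_E (f : T →+* T') {i j : ℕ} {w : TruncatedWittVector p n T} (hw : w ∈ E p n T i j) :
    WittGrp.truncMap p n f w ∈ E p n T' i j := (mem_E p).2 fun l => by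
  rw [WittGrp.coeff_truncMap]
  exact ⟨map_mem_span p f ((mem_E p).1 hw l).1, fun hl => map_mem_span p f (((mem_E p).1 hw l).2 hl)⟩

/-- Components of `F^[j] w` in degree `0` stay in `pT`. -/
theorem frobenius_coeff_zero_mem {w : WittVector p T} (hw : w.coeff 0 ∈ Ideal.span {(p : T)}) (j : ℕ) :
    (frobenius^[j] w).coeff 0 ∈ Ideal.span {(p : T)} := by
  induction j with
  | zero => exact hw
  | succ j ih =>
    rw [Function.iterate_succ_apply']
    generalize frobenius^[j] w = y at ih
    have h := ghostComponent_frobenius 0 y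
    simp only [ghostComponent_apply, zero_add, wittPolynomial_zero, wittPolynomial_one, map_add, map_mul,
      map_pow, MvPolynomial.aeval_X, MvPolynomial.aeval_C, map_natCast] at h
    rw [h]
    exact add_mem (Ideal.mul_mem_right _ _ (Ideal.mem_span_singleton_self _))
      (Ideal.pow_mem_of_mem _ ih p (Fact.out (p := p.Prime)).pos)

/-- A vector whose reduction has vanishing components below `j` is `V^j` of a vector. -/
theorem exists_iterate {i j : ℕ} (hj : j < n) {u : TruncatedWittVector p n T}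
    (hu : u ∈ E p n T i j) :
    ∃ Y : WittVector p (T ⧸ Ideal.span {(p : T) ^ (i + 1)}),
      red p (i + 1) u = WittVector.truncate n (verschiebung^[j] Y) ∧
        Y.coeff 0 = Ideal.Quotient.mk _ (u.coeff ⟨j, hj⟩) := by
  obtain ⟨X, hX⟩ := WittVector.truncate_surjective p n _ (red p (i + 1) u)
  have h0 : ∀ l < j, X.coeff l = 0 := fun l hl => by
    have := congrArg (TruncatedWittVector.coeff ⟨l, hl.trans hj⟩) hX
    rw [WittVector.coeff_truncate, WittGrp.coeff_truncMap,
      Ideal.Quotient.eq_zero_iff_mem.2 (((mem_E p).1 hu _).2 hl)] at this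
    exact this
  have hY := eq_iterate_verschiebung h0
  refine ⟨_, hX.symm.trans (congrArg (WittVector.truncate n) hY), ?_⟩
  have h := congrArg (fun z => WittVector.coeff z (0 + j)) hY
  have h' := iterate_verschiebung_coeff (X.shift j) j 0
  rw [← h', ← h, zero_add]
  have := congrArg (TruncatedWittVector.coeff ⟨j, hj⟩) hX
  rw [WittVector.coeff_truncate, WittGrp.coeff_truncMap] at this
  exact this

theorem coeff_sub_sub {i j : ℕ} (hj : j < n) {u v : TruncatedWittVector p n T}
    (hu : u ∈ E p n T i j) (hv : v ∈ E p n T i j) :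
    (u - v).coeff ⟨j, hj⟩ - (u.coeff ⟨j, hj⟩ - v.coeff ⟨j, hj⟩) ∈ Ideal.span {(p : T) ^ (i + 1)} := by
  obtain ⟨X, hX, hX0⟩ := exists_iterate p hj hu
  obtain ⟨Y, hY, hY0⟩ := exists_iterate p hj hv
  have hsub : ∀ (m : ℕ) (a b : WittVector p (T ⧸ Ideal.span {(p : T) ^ (i + 1)})),
      verschiebung^[m] a - verschiebung^[m] b = verschiebung^[m] (a - b) := by
    intro m
    induction m with
    | zero => intro a b; rfl
    | succ m ih => intro a b; rw [Function.iterate_succ_apply, Function.iterate_succ_apply,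
        Function.iterate_succ_apply, ih, map_sub]
  have h := congrArg (TruncatedWittVector.coeff ⟨j, hj⟩)
    ((map_sub (red p (i + 1)) u v).trans ((congrArg₂ (· - ·) hX hY).trans
      ((map_sub (WittVector.truncate n) _ _).symm.trans (congrArg (WittVector.truncate n) (hsub j X Y)))))
  rw [WittGrp.coeff_truncMap, WittVector.coeff_truncate,
    show (verschiebung^[j] (X - Y)).coeff j = (X - Y).coeff 0 by
      simpa using iterate_verschiebung_coeff (X - Y) j 0,
    show (X - Y).coeff 0 = X.coeff 0 - Y.coeff 0 from map_sub (constantCoeff) X Y, hX0, hY0, ← map_sub,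
    Ideal.Quotient.eq] at h
  exact h

theorem mul_mem_E {i j : ℕ} {w u : TruncatedWittVector p n T}
    (hw : w ∈ E p n T 0 1) (hu : u ∈ E p n T i j) : w * u ∈ E p n T i (j + 1) := by
  have hwu : w * u ∈ E p n T i j := Ideal.mul_mem_left _ _ hu
  refine (mem_E p).2 fun l => ⟨((mem_E p).1 hwu l).1, fun hl => ?_⟩
  rcases Nat.lt_succ_iff_lt_or_eq.1 hl with h | h
  · exact ((mem_E p).1 hwu l).2 h
  have hj : j < n := h ▸ l.isLt
  rw [show l = ⟨j, hj⟩ from Fin.ext h]
  obtain ⟨Y, hY, hY0⟩ := exists_iterate p hj hu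
  obtain ⟨W, hW⟩ := WittVector.truncate_surjective p n _ (red p (i + 1) w)
  have hW0 : W.coeff 0 ∈ Ideal.span {(p : T ⧸ Ideal.span {(p : T) ^ (i + 1)})} := by
    have := congrArg (TruncatedWittVector.coeff ⟨0, lt_of_le_of_lt (Nat.zero_le j) hj⟩) hW
    rw [WittVector.coeff_truncate, WittGrp.coeff_truncMap] at this
    rw [this]
    have h := map_mem_span p (Ideal.Quotient.mk (Ideal.span {(p : T) ^ (i + 1)}))
      (((mem_E p).1 hw ⟨0, lt_of_le_of_lt (Nat.zero_le j) hj⟩).2 Nat.zero_lt_one)
    simpa using h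
  have h := congrArg (TruncatedWittVector.coeff ⟨j, hj⟩)
    ((map_mul (red p (i + 1)) w u).trans ((congrArg₂ (· * ·) hW.symm hY).trans
      ((map_mul (WittVector.truncate n) _ _).symm.trans
        (congrArg (WittVector.truncate n) ((mul_comm _ _).trans (iterate_verschiebung_mul_left Y W j))))))
  rw [WittGrp.coeff_truncMap, WittVector.coeff_truncate,
    show (verschiebung^[j] (Y * frobenius^[j] W)).coeff j = (Y * frobenius^[j] W).coeff 0 by
      simpa using iterate_verschiebung_coeff (Y * frobenius^[j] W) j 0,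
    mul_coeff_zero, hY0] at h
  obtain ⟨c, hc⟩ := Ideal.mem_span_singleton'.1 (frobenius_coeff_zero_mem p hW0 j)
  obtain ⟨b, hb⟩ := Ideal.mem_span_singleton'.1 ((mem_E p).1 hu ⟨j, hj⟩).1
  rw [← hc, ← hb, map_mul, map_pow, map_natCast] at h
  rw [← Ideal.Quotient.eq_zero_iff_mem, h]
  have hp : (p : T ⧸ Ideal.span {(p : T) ^ (i + 1)}) ^ (i + 1) = 0 := by
    rw [← map_natCast (Ideal.Quotient.mk (Ideal.span {(p : T) ^ (i + 1)})), ← map_pow,
      Ideal.Quotient.eq_zero_iff_mem]
    exact Ideal.mem_span_singleton_self _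
  linear_combination (Ideal.Quotient.mk (Ideal.span {(p : T) ^ (i + 1)}) b * c) * hp

theorem isNilpotent_of_mem (hp : IsNilpotent (p : T)) {w : TruncatedWittVector p n T}
    (hw : w ∈ E p n T 0 1) : IsNilpotent w := by
  obtain ⟨N, hN⟩ := hp
  have key : ∀ i, ∃ m, w ^ m ∈ E p n T i 0 := by
    intro i
    induction i with
    | zero =>
      exact ⟨0, (mem_E p).2 fun l => ⟨by simp, fun hl => absurd hl (Nat.not_lt_zero _)⟩⟩
    | succ i ih =>
      obtain ⟨m, hm⟩ := ih
      have : ∀ j, ∃ m, w ^ m ∈ E p n T i j := by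
        intro j
        induction j with
        | zero => exact ⟨m, hm⟩
        | succ j ih =>
          obtain ⟨m, hm⟩ := ih
          exact ⟨m + 1, by rw [pow_succ']; exact mul_mem_E p hw hm⟩
      obtain ⟨m, hm⟩ := this n
      exact ⟨m, E_next p i hm⟩
  obtain ⟨m, hm⟩ := key N
  rw [E_eq_bot p hN] at hm
  exact ⟨m, (Ideal.mem_bot).1 hm⟩

/-- The vector with a single non-zero component. -/
theorem exists_single (i : ℕ) {j : ℕ} (hj : j < n) {b : T} (hb : b ∈ Ideal.span {(p : T) ^ i}) :
    ∃ y ∈ E p n T i j, TruncatedWittVector.coeff ⟨j, hj⟩ y = b := by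
  refine ⟨TruncatedWittVector.mk p fun l => if (l : ℕ) = j then b else 0, (mem_E p).2 fun l => ?_, ?_⟩
  · rw [TruncatedWittVector.coeff_mk]
    split_ifs with h
    · exact ⟨hb, fun hl => absurd h (Nat.ne_of_lt hl)⟩
    · exact ⟨zero_mem _, fun _ => zero_mem _⟩
  · rw [TruncatedWittVector.coeff_mk, if_pos rfl]

end Groth.Agent.WittDescLib
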