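import Mathlib
import Groth.Agent.AzumayaLib.Descent
import Groth.Agent.WittDescLib.Amitsur

/-!
Effective descent for finite projective modules given by idempotent matrices along a faithfully
flat algebra.
-/

set_option autoImplicit false
universe u

open TensorProduct Matrix

namespace Groth.Agent.WittDescLib

set_option maxHeartbeats 400000

variable {A S : Type u} [CommRing A] [CommRing S] [Algebra A S] {k : ℕ}

/-- The difference of the two base changes under a gluing matrix. -/
noncomputable def glueDiff (M : Matrix (Fin k) (Fin k) (S ⊗[A] S)) :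
    (Fin k → S) →ₗ[A] (Fin k → S ⊗[A] S) :=
  LinearMap.pi fun i => (∑ j, LinearMap.mulLeft A (M i j) ∘ₗ
      (Algebra.TensorProduct.includeLeft : S →ₐ[A] S ⊗[A] S).toLinearMap ∘ₗ LinearMap.proj j) -
    (Algebra.TensorProduct.includeRight : S →ₐ[A] S ⊗[A] S).toLinearMap ∘ₗ LinearMap.proj i

theorem glueDiff_apply (M : Matrix (Fin k) (Fin k) (S ⊗[A] S)) (y : Fin k → S) (i : Fin k) :
    glueDiff M y i = (∑ j, M i j * y j ⊗ₜ[A] (1 : S)) - (1 : S) ⊗ₜ[A] y i := by
  simp [glueDiff, LinearMap.sum_apply]

theorem piRight_lTensor_glueDiff (M : Matrix (Fin k) (Fin k) (S ⊗[A] S)) (z : S ⊗[A] (Fin k → S))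
    (i : Fin k) :
    TensorProduct.piRight A A S (fun _ : Fin k => S ⊗[A] S) ((glueDiff M).lTensor S z) i =
      (∑ j, g23 A S (M i j) * g12 A S (TensorProduct.piRight A A S (fun _ : Fin k => S) z j)) -
        g13 A S (TensorProduct.piRight A A S (fun _ : Fin k => S) z i) := by
  induction z using TensorProduct.induction_on with
  | zero => simp
  | add a b ha hb =>
    simp only [map_add, Pi.add_apply, ha, hb, mul_add, Finset.sum_add_distrib]
    abel
  | tmul s y =>
    simp only [LinearMap.lTensor_tmul, TensorProduct.piRight_apply, TensorProduct.piRightHom_tmul,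
      g12_tmul, g13_tmul, glueDiff_apply, tmul_sub, tmul_sum]
    congr 1
    refine Finset.sum_congr rfl fun j _ => ?_
    rw [show g23 A S (M i j) = (1 : S) ⊗ₜ[A] M i j from rfl, Algebra.TensorProduct.tmul_mul_tmul,
      one_mul]

/-- The descended module. -/
noncomputable abbrev descended (M : Matrix (Fin k) (Fin k) (S ⊗[A] S)) : Submodule A (Fin k → S) :=
  LinearMap.ker (glueDiff M)

/-- The comparison map to the original module. -/
noncomputable def descθ (M : Matrix (Fin k) (Fin k) (S ⊗[A] S)) :
    S ⊗[A] descended M →ₗ[S] (Fin k → S) := (descended M).subtype.liftBaseChange S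

theorem descθ_tmul (M : Matrix (Fin k) (Fin k) (S ⊗[A] S)) (s : S) (y : descended M) :
    descθ M (s ⊗ₜ y) = s • (y : Fin k → S) := by simp [descθ]

theorem descended_eq (M : Matrix (Fin k) (Fin k) (S ⊗[A] S)) (y : descended M) (i : Fin k) :
    (1 : S) ⊗ₜ[A] (y : Fin k → S) i = ∑ j, M i j * (y : Fin k → S) j ⊗ₜ[A] (1 : S) := by
  have h := congrFun (LinearMap.mem_ker.1 y.2) i
  rw [glueDiff_apply, Pi.zero_apply, sub_eq_zero] at h
  exact h.symm

theorem piRight_subtype (M : Matrix (Fin k) (Fin k) (S ⊗[A] S)) (z : S ⊗[A] descended M) (i : Fin k) :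
    TensorProduct.piRight A A S (fun _ : Fin k => S) ((descended M).subtype.lTensor S z) i =
      ∑ j, M i j * descθ M z j ⊗ₜ[A] (1 : S) := by
  induction z using TensorProduct.induction_on with
  | zero => simp
  | add a b ha hb =>
    simp only [map_add, Pi.add_apply, ha, hb, add_tmul, mul_add, Finset.sum_add_distrib]
  | tmul s y =>
    simp only [LinearMap.lTensor_tmul, TensorProduct.piRight_apply, TensorProduct.piRightHom_tmul,
      Submodule.subtype_apply, descθ_tmul, Pi.smul_apply, smul_eq_mul]
    calc s ⊗ₜ[A] (y : Fin k → S) i = s ⊗ₜ[A] (1 : S) * (1 : S) ⊗ₜ[A] (y : Fin k → S) i := by simp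
      _ = _ := by
        rw [descended_eq, Finset.mul_sum]
        refine Finset.sum_congr rfl fun j _ => ?_
        rw [mul_left_comm, Algebra.TensorProduct.tmul_mul_tmul, one_mul]

theorem descθ_injective [Module.Flat A S] (M : Matrix (Fin k) (Fin k) (S ⊗[A] S)) :
    Function.Injective (descθ M) := fun z w h => by
  refine Module.Flat.lTensor_preserves_injective_linearMap (M := S) (descended M).subtype
    Subtype.val_injective ((TensorProduct.piRight A A S (fun _ : Fin k => S)).injective ?_)
  funext i
  rw [piRight_subtype, piRight_subtype, h]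

theorem mul'_piRight (M : Matrix (Fin k) (Fin k) (S ⊗[A] S)) (z : S ⊗[A] descended M) (i : Fin k) :
    LinearMap.mul' A S (TensorProduct.piRight A A S (fun _ : Fin k => S)
      ((descended M).subtype.lTensor S z) i) = descθ M z i := by
  induction z using TensorProduct.induction_on with
  | zero => simp
  | add a b ha hb => simp only [map_add, Pi.add_apply, ha, hb]
  | tmul s y =>
    simp [TensorProduct.piRight_apply, descθ_tmul]

variable (H : ∀ (T : Type u) [CommRing T] [Algebra A T],
    (S →ₐ[A] T) → (S →ₐ[A] T) → Matrix (Fin k) (Fin k) T)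
  (hcoc : ∀ (T : Type u) [CommRing T] [Algebra A T] (a b c : S →ₐ[A] T),
    H T b c * H T a b = H T a c)
  (hnat : ∀ (T T' : Type u) [CommRing T] [Algebra A T] [CommRing T'] [Algebra A T'] (g : T →ₐ[A] T')
    (a b : S →ₐ[A] T), H T' (g.comp a) (g.comp b) = (H T a b).map g)

include hcoc hnat in
theorem exists_descθ [Module.Flat A S] (x : Fin k → S) :
    ∃ z, descθ (H (S ⊗[A] S) Algebra.TensorProduct.includeLeft Algebra.TensorProduct.includeRight) z =
      H S (AlgHom.id A S) (AlgHom.id A S) *ᵥ x := by
  let M := H (S ⊗[A] S) Algebra.TensorProduct.includeLeft Algebra.TensorProduct.includeRight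
  let pS := TensorProduct.piRight A A S (fun _ : Fin k => S)
  let w := pS.symm fun i => ∑ j, M i j * x j ⊗ₜ[A] (1 : S)
  let j1 := (g12 A S).comp Algebra.TensorProduct.includeLeft
  let j2 := (g23 A S).comp Algebra.TensorProduct.includeLeft
  let j3 := (g23 A S).comp Algebra.TensorProduct.includeRight
  have hM : M.map (g23 A S) * M.map (g12 A S) = M.map (g13 A S) := by
    rw [← hnat, ← hnat, ← hnat,
      show (g12 A S).comp Algebra.TensorProduct.includeRight = j2 from AlgHom.ext fun y => rfl,
      show (g13 A S).comp Algebra.TensorProduct.includeLeft = j1 from AlgHom.ext fun y => rfl,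
      show (g13 A S).comp Algebra.TensorProduct.includeRight = j3 from AlgHom.ext fun y => rfl]
    exact hcoc _ j1 j2 j3
  have hj : ∀ y : S, g12 A S (y ⊗ₜ[A] (1 : S)) = g13 A S (y ⊗ₜ[A] (1 : S)) := fun y => rfl
  have hw : (glueDiff M).lTensor S w = 0 := by
    apply (TensorProduct.piRight A A S (fun _ : Fin k => S ⊗[A] S)).injective
    rw [map_zero]
    funext i
    rw [piRight_lTensor_glueDiff, Pi.zero_apply, sub_eq_zero]
    simp only [w, pS, LinearEquiv.apply_symm_apply, map_sum, map_mul, Finset.mul_sum]
    rw [Finset.sum_comm]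
    refine Finset.sum_congr rfl fun l _ => ?_
    rw [← hj, ← Matrix.map_apply (M := M) (f := g13 A S), ← hM, Matrix.mul_apply, Finset.sum_mul]
    simp only [Matrix.map_apply, mul_assoc]
  have hex := Module.Flat.lTensor_exact (R := A) S (LinearMap.exact_subtype_ker_map (glueDiff M))
  obtain ⟨z, hz⟩ := (hex w).1 hw
  refine ⟨z, funext fun i => ?_⟩
  rw [← mul'_piRight, hz, Matrix.mulVec, dotProduct]
  simp only [w, pS, LinearEquiv.apply_symm_apply, map_sum]
  refine Finset.sum_congr rfl fun j _ => ?_
  rw [← Algebra.TensorProduct.lmul'_toLinearMap, AlgHom.toLinearMap_apply, map_mul,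
    Algebra.TensorProduct.lmul'_apply_tmul, mul_one]
  congr 1
  rw [← Matrix.map_apply (M := M) (f := Algebra.TensorProduct.lmul' A (S := S)), ← hnat,
    show (Algebra.TensorProduct.lmul' A (S := S)).comp Algebra.TensorProduct.includeLeft =
      AlgHom.id A S from AlgHom.ext fun y => by simp,
    show (Algebra.TensorProduct.lmul' A (S := S)).comp Algebra.TensorProduct.includeRight =
      AlgHom.id A S from AlgHom.ext fun y => by simp]

include hnat in
theorem fixed_descθ
    (z : S ⊗[A] descended (H (S ⊗[A] S) Algebra.TensorProduct.includeLeft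
      Algebra.TensorProduct.includeRight)) :
    H S (AlgHom.id A S) (AlgHom.id A S) *ᵥ descθ _ z = descθ _ z := by
  funext i
  conv_rhs => rw [← mul'_piRight, piRight_subtype]
  rw [Matrix.mulVec, dotProduct, map_sum]
  refine Finset.sum_congr rfl fun j _ => ?_
  rw [← Algebra.TensorProduct.lmul'_toLinearMap, AlgHom.toLinearMap_apply, map_mul,
    Algebra.TensorProduct.lmul'_apply_tmul, mul_one]
  congr 1
  rw [← Matrix.map_apply
      (M := H (S ⊗[A] S) Algebra.TensorProduct.includeLeft Algebra.TensorProduct.includeRight)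
      (f := Algebra.TensorProduct.lmul' A (S := S)), ← hnat,
    show (Algebra.TensorProduct.lmul' A (S := S)).comp Algebra.TensorProduct.includeLeft =
      AlgHom.id A S from AlgHom.ext fun y => by simp,
    show (Algebra.TensorProduct.lmul' A (S := S)).comp Algebra.TensorProduct.includeRight =
      AlgHom.id A S from AlgHom.ext fun y => by simp]

include hcoc hnat in
/-- Descent of an idempotent matrix with gluing. -/
theorem exists_level_one [Module.FaithfullyFlat A S] :
    ∃ (m : ℕ) (e : Matrix (Fin m) (Fin m) A) (U : Matrix (Fin k) (Fin m) S)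
      (V : Matrix (Fin m) (Fin k) S), e * e = e ∧ U * V = H S (AlgHom.id A S) (AlgHom.id A S) ∧
      V * U = e.map (algebraMap A S) ∧ U * e.map (algebraMap A S) = U ∧
      e.map (algebraMap A S) * V = V ∧
      H (S ⊗[A] S) Algebra.TensorProduct.includeLeft Algebra.TensorProduct.includeRight *
          U.map (Algebra.TensorProduct.includeLeft : S →ₐ[A] S ⊗[A] S) =
        U.map (Algebra.TensorProduct.includeRight : S →ₐ[A] S ⊗[A] S) := by
  classical
  let M := H (S ⊗[A] S) Algebra.TensorProduct.includeLeft Algebra.TensorProduct.includeRight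
  let f := H S (AlgHom.id A S) (AlgHom.id A S)
  have hinj := descθ_injective M
  choose z hz using fun i : Fin k => exists_descθ H hcoc hnat (Pi.single i 1)
  let r : (Fin k → S) →ₗ[S] S ⊗[A] descended M := Fintype.linearCombination S z
  have hr : ∀ x, descθ M (r x) = f *ᵥ x := fun x => by
    simp only [r, Fintype.linearCombination_apply, map_sum, map_smul]
    rw [Finset.sum_congr rfl fun i _ => congrArg (x i • ·) (hz i)]
    conv_rhs => rw [pi_eq_sum_univ' x, Matrix.mulVec_sum]
    exact Finset.sum_congr rfl fun i _ => (Matrix.mulVec_smul _ _ _).symm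
  have hrθ : r ∘ₗ descθ M = LinearMap.id := LinearMap.ext fun w => hinj (by
    rw [LinearMap.comp_apply, hr]
    exact fixed_descθ H hnat w)
  have : Module.Projective S (S ⊗[A] descended M) := Module.Projective.of_split (descθ M) r hrθ
  have : Module.Finite S (S ⊗[A] descended M) := Module.Finite.of_surjective r fun w =>
    ⟨descθ M w, LinearMap.congr_fun hrθ w⟩
  obtain ⟨hfin, hproj⟩ := AzumayaLib.finite_projective_of_faithfullyFlat (R := A) S (descended M)
  obtain ⟨m, q, s, -, -, hqs⟩ := Module.Finite.exists_comp_eq_id_of_projective A (descended M)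
  let U : Matrix (Fin k) (Fin m) S := Matrix.of fun i l => (q (Pi.single l 1) : Fin k → S) i
  let ψ : S ⊗[A] descended M →ₗ[S] (Fin m → S) :=
    (LinearMap.pi fun l => Algebra.linearMap A S ∘ₗ LinearMap.proj l ∘ₗ s : descended M →ₗ[A]
      (Fin m → S)).liftBaseChange S
  let e := LinearMap.toMatrix' (s ∘ₗ q)
  have hψ : ∀ (c : S) (y : descended M) (l : Fin m), ψ (c ⊗ₜ y) l = c * algebraMap A S (s y l) :=
    fun c y l => by simp [ψ]
  have hqy : ∀ (y : descended M), y = ∑ l, s y l • q (Pi.single l 1) := fun y => by
    conv_lhs => rw [← LinearMap.id_apply (R := A) y, ← hqs, LinearMap.comp_apply,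
      pi_eq_sum_univ' (s y), map_sum]
    exact Finset.sum_congr rfl fun l _ => by rw [map_smul]
  have hUψ : ∀ w, U *ᵥ ψ w = descθ M w := fun w => by
    induction w using TensorProduct.induction_on with
    | zero => simp
    | add a b ha hb => rw [map_add, map_add, Matrix.mulVec_add, ha, hb]
    | tmul c y =>
      funext i
      rw [descθ_tmul, Pi.smul_apply, smul_eq_mul]
      conv_rhs => rw [hqy y]
      simp only [Submodule.coe_sum, Finset.sum_apply, SetLike.val_smul, Pi.smul_apply,
        Pi.mul_apply, Pi.algebraMap_apply, Algebra.smul_def, Finset.mul_sum, Matrix.mulVec, dotProduct,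
        hψ, U, Matrix.of_apply]
      exact Finset.sum_congr rfl fun l _ => by ring
  let V : Matrix (Fin m) (Fin k) S := Matrix.of fun l i => ψ (z i) l
  have hV : ∀ x, V *ᵥ x = ψ (r x) := fun x => by
    funext l
    simp only [V, r, Fintype.linearCombination_apply, map_sum, map_smul, Finset.sum_apply,
      Pi.smul_apply, smul_eq_mul, Matrix.mulVec, dotProduct, Matrix.of_apply]
    exact Finset.sum_congr rfl fun i _ => mul_comm _ _
  have hψe : ∀ w, e.map (algebraMap A S) *ᵥ ψ w = ψ w := fun w => by
    induction w using TensorProduct.induction_on with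
    | zero => simp
    | add a b ha hb => rw [map_add, Matrix.mulVec_add, ha, hb]
    | tmul c y =>
      funext l
      have h := congrFun (congrArg s (LinearMap.congr_fun hqs y)) l
      rw [LinearMap.comp_apply, ← LinearMap.comp_apply s q, ← Matrix.toLin'_toMatrix' (s ∘ₗ q),
        Matrix.toLin'_apply, LinearMap.id_apply] at h
      rw [hψ, ← h]
      simp only [Matrix.mulVec, dotProduct, map_sum, map_mul, Matrix.map_apply, hψ, Finset.mul_sum]
      exact Finset.sum_congr rfl fun j _ => by ring
  refine ⟨m, e, U, V, ?_, Matrix.ext_of_mulVec_single fun i => ?_, Matrix.ext_of_mulVec_single fun l => ?_,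
    Matrix.ext_of_mulVec_single fun l => ?_, Matrix.ext_of_mulVec_single fun i => ?_, ?_⟩
  · rw [← LinearMap.toMatrix'_comp]
    congr 1
    exact LinearMap.ext fun x => congrArg s (LinearMap.congr_fun hqs (q x))
  · rw [← Matrix.mulVec_mulVec, hV, hUψ, hr]
  · rw [← Matrix.mulVec_mulVec, hV]
    have h1 : U *ᵥ Pi.single l 1 = descθ M (1 ⊗ₜ q (Pi.single l 1)) := by
      rw [descθ_tmul, one_smul, Matrix.mulVec_single_one]; rfl
    rw [h1, ← LinearMap.comp_apply r, hrθ, LinearMap.id_apply, Matrix.mulVec_single_one]
    funext i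
    rw [hψ, one_mul]
    simp [e, LinearMap.toMatrix'_apply]
  · rw [← Matrix.mulVec_mulVec, Matrix.mulVec_single_one, Matrix.mulVec_single_one]
    funext i
    have h := congrArg (fun y : descended M => (y : Fin k → S) i)
      (LinearMap.congr_fun hqs (q (Pi.single l 1)))
    simp only [LinearMap.comp_apply, LinearMap.id_apply] at h
    rw [show U.col l i = (q (Pi.single l 1) : Fin k → S) i from rfl, ← h,
      pi_eq_sum_univ' (s (q (Pi.single l 1))), map_sum, Submodule.coe_sum, Finset.sum_apply,
      Matrix.mulVec, dotProduct]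
    refine Finset.sum_congr rfl fun j _ => ?_
    rw [map_smul, SetLike.val_smul, Pi.smul_apply, Algebra.smul_def]
    simp [U, e, LinearMap.toMatrix'_apply, mul_comm]
  · rw [← Matrix.mulVec_mulVec, hV, hψe]
  · refine Matrix.ext fun i l => ?_
    rw [Matrix.map_apply, Matrix.mul_apply]
    exact (descended_eq M (q (Pi.single l 1)) i).symm

end Groth.Agent.WittDescLib
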