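import Mathlib
import Groth.Prelude.Def_WittGrp
import Groth.Agent.WittDescLib.Filt
import Groth.Agent.WittDescLib.Amitsur
import Groth.Agent.WittDescLib.Corner
import Groth.Agent.WittDescLib.Level

/-!
Effective descent of finite projective `W_n`-modules along a faithfully flat map, for matrices.
-/

set_option autoImplicit false
universe u

open TensorProduct Matrix

namespace Groth.Agent.WittDescLib

set_option maxHeartbeats 400000

variable (p : ℕ) [Fact p.Prime] {n : ℕ}

/-- The zeroth component as a ring homomorphism. -/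
noncomputable def comp0 (hn : 0 < n) (T : Type u) [CommRing T] : TruncatedWittVector p n T →+* T where
  toFun w := w.coeff ⟨0, hn⟩
  map_one' := by
    rw [← map_one (WittVector.truncate (p := p) (R := T) n), WittVector.coeff_truncate]
    exact WittVector.one_coeff_zero p T
  map_zero' := TruncatedWittVector.coeff_zero p n T _
  map_mul' x y := by
    obtain ⟨X, rfl⟩ := WittVector.truncate_surjective p n T x
    obtain ⟨Y, rfl⟩ := WittVector.truncate_surjective p n T y
    simp only [← map_mul, WittVector.coeff_truncate]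
    exact WittVector.mul_coeff_zero X Y
  map_add' x y := by
    obtain ⟨X, rfl⟩ := WittVector.truncate_surjective p n T x
    obtain ⟨Y, rfl⟩ := WittVector.truncate_surjective p n T y
    simp only [← map_add, WittVector.coeff_truncate]
    exact map_add WittVector.constantCoeff X Y

theorem comp0_apply (hn : 0 < n) {T : Type u} [CommRing T] (w : TruncatedWittVector p n T) :
    comp0 p hn T w = w.coeff ⟨0, hn⟩ := rfl

theorem comp0_truncMap (hn : 0 < n) {T T' : Type u} [CommRing T] [CommRing T'] (g : T →+* T')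
    (w : TruncatedWittVector p n T) :
    comp0 p hn T' (WittGrp.truncMap p n g w) = g (comp0 p hn T w) := by
  rw [comp0_apply, comp0_apply, WittGrp.coeff_truncMap]

theorem comp0_surjective (hn : 0 < n) (T : Type u) [CommRing T] :
    Function.Surjective (comp0 p (n := n) hn T) := fun x =>
  ⟨TruncatedWittVector.mk p fun _ => x, by rw [comp0_apply, TruncatedWittVector.coeff_mk]⟩

theorem mem_E01 (hn : 0 < n) {T : Type u} [CommRing T] {w : TruncatedWittVector p n T}
    (h : comp0 p hn T w ∈ Ideal.span {(p : T)}) : w ∈ E p n T 0 1 :=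
  (mem_E p).2 fun l => ⟨by simp, fun hl => by
    rw [zero_add, pow_one, show l = ⟨0, hn⟩ from Fin.ext (Nat.lt_one_iff.1 hl)]
    exact h⟩

theorem E_le_E01 {T : Type u} [CommRing T] {i j : ℕ} (h : 1 ≤ i ∨ 1 ≤ j) :
    E p n T i j ≤ E p n T 0 1 := fun w hw => (mem_E p).2 fun l => ⟨by simp, fun hl => by
  rw [zero_add]
  rcases h with h | h
  · exact Ideal.span_singleton_le_span_singleton.2 (pow_dvd_pow _ h) ((mem_E p).1 hw l).1
  · exact Ideal.span_singleton_le_span_singleton.2 (pow_dvd_pow _ (Nat.le_add_left 1 i))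
      (((mem_E p).1 hw l).2 (lt_of_lt_of_le hl h))⟩

theorem mem_E_succ {T : Type u} [CommRing T] {i j : ℕ} (hj : j < n) {u : TruncatedWittVector p n T}
    (hu : u ∈ E p n T i j) (h : u.coeff ⟨j, hj⟩ ∈ Ideal.span {(p : T) ^ (i + 1)}) :
    u ∈ E p n T i (j + 1) := (mem_E p).2 fun l => ⟨((mem_E p).1 hu l).1, fun hl => by
  rcases Nat.lt_succ_iff_lt_or_eq.1 hl with h' | h'
  · exact ((mem_E p).1 hu l).2 h'
  · rw [show l = ⟨j, hj⟩ from Fin.ext h']; exact h⟩

theorem coeff_add_sub {T : Type u} [CommRing T] {i j : ℕ} (hj : j < n)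
    {u v : TruncatedWittVector p n T} (hu : u ∈ E p n T i j) (hv : v ∈ E p n T i j) :
    (u + v).coeff ⟨j, hj⟩ - (u.coeff ⟨j, hj⟩ + v.coeff ⟨j, hj⟩) ∈ Ideal.span {(p : T) ^ (i + 1)} := by
  have h := coeff_sub_sub p hj (add_mem hu hv) hv
  rw [add_sub_cancel_right] at h
  convert neg_mem h using 1
  ring

section Mem

variable {T : Type u} [CommRing T] {I : Ideal T} {l m r : ℕ}

theorem mul_entries_left (A : Matrix (Fin l) (Fin m) T) {B : Matrix (Fin m) (Fin r) T}
    (h : ∀ a b, B a b ∈ I) : ∀ a b, (A * B) a b ∈ I := fun a b => by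
  rw [Matrix.mul_apply]
  exact Ideal.sum_mem _ fun c _ => Ideal.mul_mem_left _ _ (h c b)

theorem mul_entries_right {A : Matrix (Fin l) (Fin m) T} (B : Matrix (Fin m) (Fin r) T)
    (h : ∀ a b, A a b ∈ I) : ∀ a b, (A * B) a b ∈ I := fun a b => by
  rw [Matrix.mul_apply]
  exact Ideal.sum_mem _ fun c _ => Ideal.mul_mem_right _ _ (h a c)

end Mem

variable (n) (R R' : Type u) [CommRing R] [CommRing R'] [Algebra R R']

/-- A descent datum in matrix form. -/
structure Datum (k : ℕ) where
  f : Matrix (Fin k) (Fin k) (TruncatedWittVector p n R')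
  G : ∀ (T : Type u) [CommRing T] (a b : R' →+* T),
    a.comp (algebraMap R R') = b.comp (algebraMap R R') →
      Matrix (Fin k) (Fin k) (TruncatedWittVector p n T)
  self : ∀ (T : Type u) [CommRing T] (a : R' →+* T), G T a a rfl = f.map (WittGrp.truncMap p n a)
  cocycle : ∀ (T : Type u) [CommRing T] (a b c : R' →+* T)
    (hab : a.comp (algebraMap R R') = b.comp (algebraMap R R'))
    (hbc : b.comp (algebraMap R R') = c.comp (algebraMap R R')),
    G T b c hbc * G T a b hab = G T a c (hab.trans hbc)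
  natural : ∀ (T T' : Type u) [CommRing T] [CommRing T'] (g : T →+* T') (a b : R' →+* T)
    (a' b' : R' →+* T') (_ : g.comp a = a') (_ : g.comp b = b')
    (h : a.comp (algebraMap R R') = b.comp (algebraMap R R'))
    (h' : a'.comp (algebraMap R R') = b'.comp (algebraMap R R')),
    G T' a' b' h' = (G T a b h).map (WittGrp.truncMap p n g)

variable {n R R'} {k : ℕ}

theorem truncMap_map_map {T T' T'' : Type u} [CommRing T] [CommRing T'] [CommRing T''] {l r : ℕ}
    (g : T' →+* T'') (a : T →+* T') (M : Matrix (Fin l) (Fin r) (TruncatedWittVector p n T)) :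
    (M.map (WittGrp.truncMap p n a)).map (WittGrp.truncMap p n g) =
      M.map (WittGrp.truncMap p n (g.comp a)) := by
  rw [Matrix.map_map, WittGrp.truncMap_comp, RingHom.coe_comp]

theorem Datum.G_mul_f (D : Datum p n R R' k) (T : Type u) [CommRing T] (a b : R' →+* T)
    (h : a.comp (algebraMap R R') = b.comp (algebraMap R R')) :
    D.G T a b h * D.f.map (WittGrp.truncMap p n a) = D.G T a b h := by
  rw [← D.self, D.cocycle]

theorem Datum.f_mul_G (D : Datum p n R R' k) (T : Type u) [CommRing T] (a b : R' →+* T)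
    (h : a.comp (algebraMap R R') = b.comp (algebraMap R R')) :
    D.f.map (WittGrp.truncMap p n b) * D.G T a b h = D.G T a b h := by
  rw [← D.self, D.cocycle]

theorem Datum.f_mul_f (D : Datum p n R R' k) : D.f * D.f = D.f := by
  have h := D.cocycle R' (RingHom.id _) (RingHom.id _) (RingHom.id _) rfl rfl
  rw [D.self] at h
  simpa [WittGrp.truncMap_id, Matrix.map_id] using h

/-- Change of coordinates of a datum. -/
noncomputable def Datum.conj (D : Datum p n R R' k) {m : ℕ}
    (e : Matrix (Fin m) (Fin m) (TruncatedWittVector p n R'))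
    (U : Matrix (Fin k) (Fin m) (TruncatedWittVector p n R'))
    (V : Matrix (Fin m) (Fin k) (TruncatedWittVector p n R'))
    (hUV : U * V = D.f) (hVU : V * U = e) (hVf : V * D.f = V) : Datum p n R R' m where
  f := e
  G T _ a b h := V.map (WittGrp.truncMap p n b) * D.G T a b h * U.map (WittGrp.truncMap p n a)
  self T _ a := by rw [D.self, ← Matrix.map_mul, ← Matrix.map_mul, hVf, hVU]
  cocycle T _ a b c hab hbc := by
    calc _ = V.map (WittGrp.truncMap p n c) * D.G T b c hbc *
          (U.map (WittGrp.truncMap p n b) * V.map (WittGrp.truncMap p n b)) * D.G T a b hab *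
          U.map (WittGrp.truncMap p n a) := by simp only [Matrix.mul_assoc]
      _ = _ := by
        rw [← Matrix.map_mul, hUV, Matrix.mul_assoc (V.map _) (D.G T b c hbc), D.G_mul_f,
          Matrix.mul_assoc (V.map _) (D.G T b c hbc), D.cocycle]
  natural T T' _ _ g a b a' b' ha hb h h' := by
    rw [D.natural T T' g a b a' b' ha hb h h', Matrix.map_mul, Matrix.map_mul, truncMap_map_map,
      truncMap_map_map, ha, hb]

theorem univ_cond : (Algebra.TensorProduct.includeLeftRingHom : R' →+* R' ⊗[R] R').comp (algebraMap R R') =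
    ((Algebra.TensorProduct.includeRight : R' →ₐ[R] R' ⊗[R] R') : R' →+* R' ⊗[R] R').comp
      (algebraMap R R') := RingHom.ext fun r => by
  simp only [RingHom.comp_apply, Algebra.TensorProduct.includeLeftRingHom_apply, RingHom.coe_coe,
    Algebra.TensorProduct.includeRight_apply, Algebra.algebraMap_eq_smul_one, smul_tmul]

/-- Every pair factors through the universal one. -/
theorem exists_factor (T : Type u) [CommRing T] (a b : R' →+* T)
    (h : a.comp (algebraMap R R') = b.comp (algebraMap R R')) :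
    ∃ g : R' ⊗[R] R' →+* T, g.comp Algebra.TensorProduct.includeLeftRingHom = a ∧
      g.comp ((Algebra.TensorProduct.includeRight : R' →ₐ[R] R' ⊗[R] R') : R' →+* R' ⊗[R] R') = b := by
  let := (a.comp (algebraMap R R')).toAlgebra
  let a' : R' →ₐ[R] T := { a with commutes' := fun r => rfl }
  let b' : R' →ₐ[R] T := { b with commutes' := fun r => (RingHom.congr_fun h r).symm }
  exact ⟨(Algebra.TensorProduct.lift a' b' fun _ _ => Commute.all _ _).toRingHom,
    RingHom.ext fun x => by simp [a'], RingHom.ext fun x => by simp [b']⟩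

/-- A gluing identity at the universal pair holds at every pair. -/
theorem Datum.glue_of_univ (D : Datum p n R R' k) {m : ℕ}
    (U : Matrix (Fin k) (Fin m) (TruncatedWittVector p n R'))
    (hU : D.G (R' ⊗[R] R') _ _ univ_cond *
        U.map (WittGrp.truncMap p n Algebra.TensorProduct.includeLeftRingHom) =
      U.map (WittGrp.truncMap p n
        ((Algebra.TensorProduct.includeRight : R' →ₐ[R] R' ⊗[R] R') : R' →+* R' ⊗[R] R')))
    (T : Type u) [CommRing T] (a b : R' →+* T)
    (h : a.comp (algebraMap R R') = b.comp (algebraMap R R')) :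
    D.G T a b h * U.map (WittGrp.truncMap p n a) = U.map (WittGrp.truncMap p n b) := by
  obtain ⟨g, rfl, rfl⟩ := exists_factor T a b h
  rw [D.natural _ T g _ _ _ _ rfl rfl univ_cond h, ← truncMap_map_map, ← Matrix.map_mul]
  exact (congrArg (fun M : Matrix (Fin k) (Fin m) _ => M.map (WittGrp.truncMap p n g)) hU).trans
    (truncMap_map_map p g _ U)

section Correct

variable [Module.FaithfullyFlat R R'] (D : Datum p n R R' k)
  (e : Matrix (Fin k) (Fin k) (TruncatedWittVector p n R))
  (hf : D.f = e.map (WittGrp.truncMap p n (algebraMap R R')))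
  (hG : ∀ (T : Type u) [CommRing T] (a b : R' →+* T)
    (h : a.comp (algebraMap R R') = b.comp (algebraMap R R')) (l r : Fin k),
    (D.G T a b h - D.f.map (WittGrp.truncMap p n b)) l r ∈ E p n T 0 1)

omit [Module.FaithfullyFlat R R'] in
include hf in
theorem Datum.f_eq (T : Type u) [CommRing T] (a b : R' →+* T)
    (h : a.comp (algebraMap R R') = b.comp (algebraMap R R')) :
    D.f.map (WittGrp.truncMap p n a) = D.f.map (WittGrp.truncMap p n b) := by
  rw [hf, truncMap_map_map, truncMap_map_map, h]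

/-- The defect of a change of coordinates. -/
noncomputable def Datum.defect (X : Matrix (Fin k) (Fin k) (TruncatedWittVector p n R'))
    (T : Type u) [CommRing T] (a b : R' →+* T)
    (h : a.comp (algebraMap R R') = b.comp (algebraMap R R')) :
    Matrix (Fin k) (Fin k) (TruncatedWittVector p n T) :=
  D.G T a b h * X.map (WittGrp.truncMap p n a) - X.map (WittGrp.truncMap p n b)

omit [Module.FaithfullyFlat R R'] in
theorem Datum.defect_natural (X : Matrix (Fin k) (Fin k) (TruncatedWittVector p n R'))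
    (T T' : Type u) [CommRing T] [CommRing T'] (g : T →+* T') (a b : R' →+* T) (a' b' : R' →+* T')
    (ha : g.comp a = a') (hb : g.comp b = b')
    (h : a.comp (algebraMap R R') = b.comp (algebraMap R R'))
    (h' : a'.comp (algebraMap R R') = b'.comp (algebraMap R R')) :
    D.defect p X T' a' b' h' = (D.defect p X T a b h).map (WittGrp.truncMap p n g) := by
  rw [Datum.defect, Datum.defect, D.natural T T' g a b a' b' ha hb h h', Matrix.map_sub _ (map_sub _),
    Matrix.map_mul, truncMap_map_map, truncMap_map_map, ha, hb]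

omit [Module.FaithfullyFlat R R'] in
include hf in
theorem Datum.defect_cocycle {X : Matrix (Fin k) (Fin k) (TruncatedWittVector p n R')}
    (hfX : D.f * X = X) (T : Type u) [CommRing T] (a b c : R' →+* T)
    (hab : a.comp (algebraMap R R') = b.comp (algebraMap R R'))
    (hbc : b.comp (algebraMap R R') = c.comp (algebraMap R R')) :
    D.defect p X T a c (hab.trans hbc) - D.defect p X T a b hab - D.defect p X T b c hbc =
      (D.G T b c hbc - D.f.map (WittGrp.truncMap p n c)) * D.defect p X T a b hab := by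
  have e1 : D.f.map (WittGrp.truncMap p n c) * D.defect p X T a b hab = D.defect p X T a b hab := by
    rw [← D.f_eq p e hf T b c hbc, Datum.defect, Matrix.mul_sub, ← Matrix.mul_assoc, D.f_mul_G,
      ← Matrix.map_mul, hfX]
  rw [Matrix.sub_mul, e1, Datum.defect, Datum.defect, Datum.defect, Matrix.mul_sub,
    ← Matrix.mul_assoc, D.cocycle]
  abel

/-- The entrywise correction. -/
theorem exists_adjust {i j : ℕ} (hj : j < n) {δ : TruncatedWittVector p n (R' ⊗[R] R')}
    (hδ : δ ∈ E p n (R' ⊗[R] R') i j)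
    (hcoc : WittGrp.truncMap p n (g13 R R').toRingHom δ - WittGrp.truncMap p n (g12 R R').toRingHom δ -
      WittGrp.truncMap p n (g23 R R').toRingHom δ ∈ E p n (R' ⊗[R] (R' ⊗[R] R')) i (j + 1)) :
    ∃ Y ∈ E p n R' i j, δ + (WittGrp.truncMap p n Algebra.TensorProduct.includeLeftRingHom Y -
      WittGrp.truncMap p n ((Algebra.TensorProduct.includeRight : R' →ₐ[R] R' ⊗[R] R') :
        R' →+* R' ⊗[R] R') Y) ∈ E p n (R' ⊗[R] R') i (j + 1) := by
  have hc : δ.coeff ⟨j, hj⟩ ∈ Ideal.span {algebraMap R (R' ⊗[R] R') (p : R) ^ i} := by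
    rw [map_natCast]
    exact ((mem_E p).1 hδ _).1
  have hd1 : d1 R R' (δ.coeff ⟨j, hj⟩) ∈
      Ideal.span {algebraMap R (R' ⊗[R] (R' ⊗[R] R')) (p : R) ^ (i + 1)} := by
    rw [map_natCast, d1_apply]
    have hu := map_mem_E p (g13 R R').toRingHom hδ
    have hv := map_mem_E p (g12 R R').toRingHom hδ
    have hw := map_mem_E p (g23 R R').toRingHom hδ
    have h3 := ((mem_E p).1 hcoc ⟨j, hj⟩).2 (Nat.lt_succ_self j)
    have := add_mem (add_mem (coeff_sub_sub p hj hu hv) (coeff_sub_sub p hj (sub_mem hu hv) hw))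
      (neg_mem h3)
    simp only [WittGrp.coeff_truncMap, AlgHom.toRingHom_eq_coe, RingHom.coe_coe] at this
    convert this using 1
    ring
  obtain ⟨y, hy, hy'⟩ := exists_coboundary R' (p : R) i _ hc hd1
  rw [map_natCast] at hy hy'
  obtain ⟨Y, hY, hY'⟩ := exists_single p (n := n) i hj hy
  refine ⟨Y, hY, ?_⟩
  have h1 := map_mem_E p (Algebra.TensorProduct.includeLeftRingHom : R' →+* R' ⊗[R] R') hY
  have h2 := map_mem_E p ((Algebra.TensorProduct.includeRight : R' →ₐ[R] R' ⊗[R] R') :
        R' →+* R' ⊗[R] R') hY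
  refine mem_E_succ p hj (add_mem hδ (sub_mem h1 h2)) ?_
  have := add_mem (add_mem (coeff_add_sub p hj hδ (sub_mem h1 h2)) (coeff_sub_sub p hj h1 h2)) hy'
  convert this using 1
  simp only [WittGrp.coeff_truncMap, hY', d0_apply, Algebra.TensorProduct.includeLeftRingHom_apply,
    RingHom.coe_coe, Algebra.TensorProduct.includeRight_apply]
  ring

include hf hG in
theorem Datum.step_coc {i j : ℕ} {X : Matrix (Fin k) (Fin k) (TruncatedWittVector p n R')}
    (hfX : D.f * X = X) (hd : ∀ l r, D.defect p X _ _ _ univ_cond l r ∈ E p n (R' ⊗[R] R') i j)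
    (l r : Fin k) :
    WittGrp.truncMap p n (g13 R R').toRingHom (D.defect p X _ _ _ univ_cond l r) -
      WittGrp.truncMap p n (g12 R R').toRingHom (D.defect p X _ _ _ univ_cond l r) -
      WittGrp.truncMap p n (g23 R R').toRingHom (D.defect p X _ _ _ univ_cond l r) ∈
        E p n (R' ⊗[R] (R' ⊗[R] R')) i (j + 1) := by
  let ι1 : R' →+* R' ⊗[R] R' := Algebra.TensorProduct.includeLeftRingHom
  let ι2 : R' →+* R' ⊗[R] R' :=
    ((Algebra.TensorProduct.includeRight : R' →ₐ[R] R' ⊗[R] R') : R' →+* R' ⊗[R] R')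
  let j1 := (g12 R R').toRingHom.comp ι1
  let j2 := (g12 R R').toRingHom.comp ι2
  let j3 := (g23 R R').toRingHom.comp ι2
  have hj2 : (g23 R R').toRingHom.comp ι1 = j2 := RingHom.ext fun x => rfl
  have hj1 : (g13 R R').toRingHom.comp ι1 = j1 := RingHom.ext fun x => rfl
  have hj3 : (g13 R R').toRingHom.comp ι2 = j3 := RingHom.ext fun x => rfl
  have h12 : j1.comp (algebraMap R R') = j2.comp (algebraMap R R') := by
    simp only [j1, j2, RingHom.comp_assoc, ι1, ι2, univ_cond]
  have h23 : j2.comp (algebraMap R R') = j3.comp (algebraMap R R') := by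
    rw [← hj2]; simp only [j3, RingHom.comp_assoc, ι1, ι2, univ_cond]
  have e12 := D.defect_natural p X _ _ _ ι1 ι2 j1 j2 rfl rfl univ_cond h12
  have e23 := D.defect_natural p X _ _ _ ι1 ι2 j2 j3 hj2 rfl univ_cond h23
  have e13 := D.defect_natural p X _ _ _ ι1 ι2 j1 j3 hj1 hj3 univ_cond (h12.trans h23)
  have hd' : ∀ c, D.defect p X _ j1 j2 h12 c r ∈ E p n (R' ⊗[R] (R' ⊗[R] R')) i j := fun c => by
    rw [e12, Matrix.map_apply]
    exact map_mem_E p (g12 R R').toRingHom (hd c r)
  have h : (D.defect p X _ j1 j3 (h12.trans h23) - D.defect p X _ j1 j2 h12 -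
          D.defect p X _ j2 j3 h23) l r =
      ((D.G _ j2 j3 h23 - D.f.map (WittGrp.truncMap p n j3)) * D.defect p X _ j1 j2 h12 :
        Matrix (Fin k) (Fin k) _) l r := by
    rw [D.defect_cocycle p e hf hfX (R' ⊗[R] (R' ⊗[R] R')) j1 j2 j3 h12 h23]
  have hlhs : WittGrp.truncMap p n (g13 R R').toRingHom (D.defect p X _ _ _ univ_cond l r) -
      WittGrp.truncMap p n (g12 R R').toRingHom (D.defect p X _ _ _ univ_cond l r) -
      WittGrp.truncMap p n (g23 R R').toRingHom (D.defect p X _ _ _ univ_cond l r) =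
        (D.defect p X _ j1 j3 (h12.trans h23) - D.defect p X _ j1 j2 h12 -
          D.defect p X _ j2 j3 h23) l r := by
    rw [e12, e23, e13]
    rfl
  rw [hlhs, h, Matrix.mul_apply]
  exact Ideal.sum_mem _ fun c _ => mul_mem_E p (hG (R' ⊗[R] (R' ⊗[R] R')) j2 j3 h23 l c) (hd' c)

include hf hG in
theorem Datum.step {i j : ℕ} (hj : j < n) (hij : 1 ≤ i ∨ 1 ≤ j)
    {X : Matrix (Fin k) (Fin k) (TruncatedWittVector p n R')} (hfX : D.f * X = X) (hXf : X * D.f = X)
    (hX : ∀ l r, (X - D.f) l r ∈ E p n R' 0 1)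
    (hd : ∀ l r, D.defect p X _ _ _ univ_cond l r ∈ E p n (R' ⊗[R] R') i j) :
    ∃ X' : Matrix (Fin k) (Fin k) (TruncatedWittVector p n R'), D.f * X' = X' ∧ X' * D.f = X' ∧
      (∀ l r, (X' - D.f) l r ∈ E p n R' 0 1) ∧
      ∀ l r, D.defect p X' _ _ _ univ_cond l r ∈ E p n (R' ⊗[R] R') i (j + 1) := by
  let ι1 : R' →+* R' ⊗[R] R' := Algebra.TensorProduct.includeLeftRingHom
  let ι2 : R' →+* R' ⊗[R] R' :=
    ((Algebra.TensorProduct.includeRight : R' →ₐ[R] R' ⊗[R] R') : R' →+* R' ⊗[R] R')
  let Δ := D.defect p X _ ι1 ι2 univ_cond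
  choose Y hY hW using fun l r => exists_adjust p hj (hd l r) (D.step_coc p e hf hG hfX hd l r)
  let Ym : Matrix (Fin k) (Fin k) (TruncatedWittVector p n R') := Matrix.of Y
  let Z := D.f * Ym * D.f
  refine ⟨X + Z, ?_, ?_, fun l r => ?_, fun l r => ?_⟩
  · rw [Matrix.mul_add, hfX, ← Matrix.mul_assoc, ← Matrix.mul_assoc, D.f_mul_f]
  · rw [Matrix.add_mul, hXf, Matrix.mul_assoc _ D.f, D.f_mul_f]
  · rw [add_sub_right_comm, Matrix.add_apply]
    exact add_mem (hX l r) (mul_entries_right D.f
      (mul_entries_left D.f fun a b => E_le_E01 p hij (hY a b)) l r)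
  · let P := D.f.map (WittGrp.truncMap p n ι2)
    have hP : D.f.map (WittGrp.truncMap p n ι1) = P := D.f_eq p e hf _ ι1 ι2 univ_cond
    have hΔ : P * Δ * P = Δ := by
      have h1 : P * Δ = Δ := by
        simp only [Δ, Datum.defect, P, Matrix.mul_sub, ← Matrix.mul_assoc, D.f_mul_G,
          ← Matrix.map_mul, hfX]
      rw [h1]
      simp only [Δ, Datum.defect, Matrix.sub_mul]
      rw [Matrix.mul_assoc (D.G _ _ _ _)]
      conv_lhs => arg 1; rw [← hP]
      simp only [P, ← Matrix.map_mul, hXf]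
    have h1 : Z.map (WittGrp.truncMap p n ι1) = P * Ym.map (WittGrp.truncMap p n ι1) * P := by
      simp only [Z, Matrix.map_mul, hP]
    have h2 : Z.map (WittGrp.truncMap p n ι2) = P * Ym.map (WittGrp.truncMap p n ι2) * P := by
      simp only [Z, Matrix.map_mul, P]
    have hPP : P * P = P := by simp only [P, ← Matrix.map_mul, D.f_mul_f]
    have heq : D.defect p (X + Z) _ ι1 ι2 univ_cond =
        P * (Δ + (Ym.map (WittGrp.truncMap p n ι1) - Ym.map (WittGrp.truncMap p n ι2))) * P +
          (D.G _ ι1 ι2 univ_cond - P) * Z.map (WittGrp.truncMap p n ι1) := by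
      rw [Matrix.mul_add P, Matrix.mul_sub P, Matrix.add_mul, Matrix.sub_mul, hΔ, ← h1, ← h2,
        Matrix.sub_mul, show P * Z.map (WittGrp.truncMap p n ι1) = Z.map (WittGrp.truncMap p n ι1) by
          rw [h1, ← Matrix.mul_assoc, ← Matrix.mul_assoc, hPP]]
      simp only [Δ, Datum.defect, Matrix.map_add _ (map_add _), Matrix.mul_add]
      abel
    rw [heq, Matrix.add_apply]
    refine add_mem (mul_entries_right P (mul_entries_left P hW) l r) ?_
    rw [Matrix.mul_apply]
    exact Ideal.sum_mem _ fun c _ => mul_mem_E p (hG (R' ⊗[R] R') ι1 ι2 univ_cond l c)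
      (map_mem_E p ι1 (mul_entries_right D.f (mul_entries_left D.f (B := Ym) hY) c r))

include hf hG in
theorem Datum.exists_corrected (hn : 0 < n) (hp : IsNilpotent (p : R)) :
    ∃ X : Matrix (Fin k) (Fin k) (TruncatedWittVector p n R'), D.f * X = X ∧ X * D.f = X ∧
      (∀ l r, (X - D.f) l r ∈ E p n R' 0 1) ∧
      D.G (R' ⊗[R] R') _ _ univ_cond *
          X.map (WittGrp.truncMap p n Algebra.TensorProduct.includeLeftRingHom) =
        X.map (WittGrp.truncMap p n
          ((Algebra.TensorProduct.includeRight : R' →ₐ[R] R' ⊗[R] R') : R' →+* R' ⊗[R] R')) := by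
  let P : ℕ → ℕ → Prop := fun i j => ∃ X : Matrix (Fin k) (Fin k) (TruncatedWittVector p n R'),
    D.f * X = X ∧ X * D.f = X ∧ (∀ l r, (X - D.f) l r ∈ E p n R' 0 1) ∧
      ∀ l r, D.defect p X _ _ _ univ_cond l r ∈ E p n (R' ⊗[R] R') i j
  have base : P 0 1 := by
    refine ⟨D.f, D.f_mul_f, D.f_mul_f, fun l r => by simp, fun l r => ?_⟩
    rw [Datum.defect, D.G_mul_f]
    exact hG _ _ _ univ_cond l r
  have step : ∀ i j, j < n → (1 ≤ i ∨ 1 ≤ j) → P i j → P i (j + 1) :=
    fun i j hj hij ⟨X, h1, h2, h3, h4⟩ => D.step p e hf hG hj hij h1 h2 h3 h4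
  have key : ∀ i, P i n := by
    intro i
    induction i with
    | zero =>
      have : ∀ j, 1 ≤ j → j ≤ n → P 0 j := fun j hj => Nat.le_induction (fun _ => base)
        (fun j hj ih j' => step 0 j j' (Or.inr hj) (ih (le_of_lt j'))) j hj
      exact this n hn le_rfl
    | succ i ih =>
      obtain ⟨X, h1, h2, h3, h4⟩ := ih
      have h0 : P (i + 1) 0 := ⟨X, h1, h2, h3, fun l r => E_next p i (h4 l r)⟩
      have : ∀ j ≤ n, P (i + 1) j := by
        intro j
        induction j with
        | zero => exact fun _ => h0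
        | succ j ihj => exact fun hj => step _ j hj (Or.inl (Nat.le_add_left 1 i)) (ihj (le_of_lt hj))
      exact this n le_rfl
  obtain ⟨N, hN⟩ := hp
  obtain ⟨X, h1, h2, h3, h4⟩ := key N
  refine ⟨X, h1, h2, h3, sub_eq_zero.1 (Matrix.ext fun l r => ?_)⟩
  have hN' : (p : R' ⊗[R] R') ^ N = 0 := by
    rw [← map_natCast (algebraMap R (R' ⊗[R] R')), ← map_pow, hN, map_zero]
  have := h4 l r
  rw [E_eq_bot p hN', Ideal.mem_bot] at this
  exact this

end Correct

end Groth.Agent.WittDescLib
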