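import Mathlib
import Groth.Agent.FiltProjLib.Lift
import Groth.Agent.WittDescLib.Main

/-!
Effective descent of finite projective `W_n`-modules, in matrix form.
-/

set_option autoImplicit false
universe u

open TensorProduct Matrix

namespace Groth.Agent.WittDescLib

set_option maxHeartbeats 400000

variable (p : ℕ) [Fact p.Prime] {n : ℕ} {R R' : Type u} [CommRing R] [CommRing R'] [Algebra R R']
  {k : ℕ}

/-- The base ring modulo `p`. -/
abbrev RedBase (R : Type u) [CommRing R] : Type u := R ⧸ Ideal.span {(p : R)}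

/-- The cover modulo `p`. -/
abbrev RedCover (R R' : Type u) [CommRing R] [CommRing R'] [Algebra R R'] : Type u :=
  RedBase p R ⊗[R] R'

/-- The reduction map of the cover. -/
noncomputable def redCover : R' →+* RedCover p R R' :=
  ((Algebra.TensorProduct.includeRight : R' →ₐ[R] RedCover p R R') : R' →+* RedCover p R R')

theorem redCover_surjective : Function.Surjective (redCover p (R := R) (R' := R')) := fun z => by
  obtain ⟨x, hx⟩ := TensorProduct.mk_surjective R R' (RedBase p R) Ideal.Quotient.mk_surjective z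
  exact ⟨x, hx⟩

theorem redCover_eq_zero {x : R'} : redCover p (R := R) x = 0 ↔ x ∈ Ideal.span {(p : R')} := by
  change (1 : RedBase p R) ⊗ₜ[R] x = 0 ↔ _
  rw [one_tmul_eq_zero, Ideal.map_span, Set.image_singleton, map_natCast]

theorem redCover_algebraMap (r : R) :
    redCover p (algebraMap R R' r) =
      algebraMap (RedBase p R) (RedCover p R R') (Ideal.Quotient.mk (Ideal.span {(p : R)}) r) := by
  change (1 : RedBase p R) ⊗ₜ[R] algebraMap R R' r =
    Ideal.Quotient.mk (Ideal.span {(p : R)}) r ⊗ₜ[R] (1 : R')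
  rw [Algebra.algebraMap_eq_smul_one, ← smul_tmul]
  congr 1
  rw [Algebra.smul_def, mul_one]
  rfl

theorem redCover_cond (T : Type u) [CommRing T] [Algebra (RedBase p R) T]
    (a b : RedCover p R R' →ₐ[RedBase p R] T) :
    ((a : RedCover p R R' →+* T).comp (redCover p)).comp (algebraMap R R') =
      ((b : RedCover p R R' →+* T).comp (redCover p)).comp (algebraMap R R') := RingHom.ext fun r => by
  simp only [RingHom.comp_apply, RingHom.coe_coe, redCover_algebraMap, AlgHom.commutes]

/-- The gluing data modulo `p` and the Verschiebung. -/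
noncomputable def Datum.bar (D : Datum p n R R' k) (hn : 0 < n) (T : Type u) [CommRing T]
    [Algebra (RedBase p R) T] (a b : RedCover p R R' →ₐ[RedBase p R] T) :
    Matrix (Fin k) (Fin k) T :=
  (D.G T _ _ (redCover_cond p T a b)).map (comp0 p hn T)

theorem Datum.bar_coc (D : Datum p n R R' k) (hn : 0 < n) (T : Type u) [CommRing T]
    [Algebra (RedBase p R) T] (a b c : RedCover p R R' →ₐ[RedBase p R] T) :
    D.bar p hn T b c * D.bar p hn T a b = D.bar p hn T a c := by
  rw [Datum.bar, Datum.bar, Datum.bar, ← Matrix.map_mul, D.cocycle]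

theorem map_comp0_truncMap (hn : 0 < n) {T T' : Type u} [CommRing T] [CommRing T'] (g : T →+* T')
    {l r : ℕ} (M : Matrix (Fin l) (Fin r) (TruncatedWittVector p n T)) :
    (M.map (WittGrp.truncMap p n g)).map (comp0 p hn T') = (M.map (comp0 p hn T)).map g :=
  Matrix.ext fun i j => comp0_truncMap p hn g (M i j)

theorem Datum.bar_nat (D : Datum p n R R' k) (hn : 0 < n) (T T' : Type u) [CommRing T]
    [Algebra (RedBase p R) T] [CommRing T'] [Algebra (RedBase p R) T'] (g : T →ₐ[RedBase p R] T')
    (a b : RedCover p R R' →ₐ[RedBase p R] T) :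
    D.bar p hn T' (g.comp a) (g.comp b) = (D.bar p hn T a b).map g := by
  refine Eq.trans ?_ (map_comp0_truncMap p hn (g : T →+* T') (D.G T _ _ (redCover_cond p T a b)))
  exact congrArg (fun M : Matrix (Fin k) (Fin k) _ => M.map (comp0 p hn T'))
    (D.natural T T' (g : T →+* T') ((a : RedCover p R R' →+* T).comp (redCover p))
      ((b : RedCover p R R' →+* T).comp (redCover p))
      (((g.comp a : RedCover p R R' →ₐ[RedBase p R] T') : RedCover p R R' →+* T').comp (redCover p))
      (((g.comp b : RedCover p R R' →ₐ[RedBase p R] T') : RedCover p R R' →+* T').comp (redCover p))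
      rfl rfl (redCover_cond p T a b) (redCover_cond p T' (g.comp a) (g.comp b)))

/-- The gluing of the lifted coordinates agrees with the identity modulo `p` and the Verschiebung. -/
theorem Datum.comp0_glue (D : Datum p n R R' k) (hn : 0 < n) {m : ℕ}
    (Ū : Matrix (Fin k) (Fin m) (RedCover p R R'))
    (hH : D.bar p hn (RedCover p R R' ⊗[RedBase p R] RedCover p R R') Algebra.TensorProduct.includeLeft
        Algebra.TensorProduct.includeRight *
          Ū.map (Algebra.TensorProduct.includeLeft :
            RedCover p R R' →ₐ[RedBase p R] RedCover p R R' ⊗[RedBase p R] RedCover p R R') =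
        Ū.map (Algebra.TensorProduct.includeRight :
            RedCover p R R' →ₐ[RedBase p R] RedCover p R R' ⊗[RedBase p R] RedCover p R R'))
    (U : Matrix (Fin k) (Fin m) (TruncatedWittVector p n R'))
    (hU : (U.map (comp0 p hn R')).map (redCover p) = Ū)
    (T : Type u) [CommRing T] (a b : R' →+* T)
    (h : a.comp (algebraMap R R') = b.comp (algebraMap R R')) (i : Fin k) (j : Fin m) :
    (D.G T a b h * U.map (WittGrp.truncMap p n a) - U.map (WittGrp.truncMap p n b)) i j ∈
      E p n T 0 1 := by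
  let I : Ideal T := Ideal.span {(p : T)}
  let := (a.comp (algebraMap R R')).toAlgebra
  let := (Ideal.quotientMap I (algebraMap R T) (I := Ideal.span {(p : R)}) (by
    rw [Ideal.span_singleton_le_iff_mem, Ideal.mem_comap, map_natCast]
    exact Ideal.mem_span_singleton_self _)).toAlgebra
  have : IsScalarTower R (RedBase p R) (T ⧸ I) := IsScalarTower.of_algebraMap_eq fun r => rfl
  let a' : R' →ₐ[R] T := { a with commutes' := fun r => rfl }
  let b' : R' →ₐ[R] T := { b with commutes' := fun r => (RingHom.congr_fun h r).symm }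
  let aA : RedCover p R R' →ₐ[RedBase p R] T ⧸ I := Algebra.TensorProduct.lift (Algebra.ofId _ _)
    ((Ideal.Quotient.mkₐ R I).comp a') fun _ _ => Commute.all _ _
  let bA : RedCover p R R' →ₐ[RedBase p R] T ⧸ I := Algebra.TensorProduct.lift (Algebra.ofId _ _)
    ((Ideal.Quotient.mkₐ R I).comp b') fun _ _ => Commute.all _ _
  let g : RedCover p R R' ⊗[RedBase p R] RedCover p R R' →ₐ[RedBase p R] T ⧸ I :=
    Algebra.TensorProduct.lift aA bA fun _ _ => Commute.all _ _
  have hga : g.comp Algebra.TensorProduct.includeLeft = aA := AlgHom.ext fun x => by simp [g]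
  have hgb : g.comp Algebra.TensorProduct.includeRight = bA := AlgHom.ext fun x => by simp [g]
  have ha : (aA : RedCover p R R' →+* T ⧸ I).comp (redCover p) = (Ideal.Quotient.mk I).comp a :=
    RingHom.ext fun x => by simp [aA, redCover, a']
  have hb : (bA : RedCover p R R' →+* T ⧸ I).comp (redCover p) = (Ideal.Quotient.mk I).comp b :=
    RingHom.ext fun x => by simp [bA, redCover, b']
  have h1 : D.bar p hn (T ⧸ I) aA bA = ((D.G T a b h).map (comp0 p hn T)).map (Ideal.Quotient.mk I) := by
    rw [Datum.bar, D.natural T (T ⧸ I) (Ideal.Quotient.mk I) a b _ _ ha.symm hb.symm h,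
      map_comp0_truncMap]
  have hM : ∀ (c : R' →+* T) (c' : RedCover p R R' →ₐ[RedBase p R] T ⧸ I),
      (c' : RedCover p R R' →+* T ⧸ I).comp (redCover p) = (Ideal.Quotient.mk I).comp c →
      ((U.map (WittGrp.truncMap p n c)).map (comp0 p hn T)).map (Ideal.Quotient.mk I) = Ū.map c' :=
    fun c c' hc => by
      rw [map_comp0_truncMap, ← hU]
      exact Matrix.ext fun i j => (RingHom.congr_fun hc _).symm
  refine mem_E01 p hn (Ideal.Quotient.eq_zero_iff_mem.1 ?_)
  have hbg : (D.bar p hn (RedCover p R R' ⊗[RedBase p R] RedCover p R R') Algebra.TensorProduct.includeLeft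
      Algebra.TensorProduct.includeRight).map g = D.bar p hn (T ⧸ I) aA bA := by
    rw [← hga, ← hgb]
    exact (D.bar_nat p hn (RedCover p R R' ⊗[RedBase p R] RedCover p R R') (T ⧸ I) g _ _).symm
  have h2 : D.bar p hn (T ⧸ I) aA bA * Ū.map aA = Ū.map bA := by
    have h3 := congrArg (fun M : Matrix (Fin k) (Fin m) _ =>
      M.map g.toRingHom) hH
    rw [← hbg, ← hga, ← hgb]
    exact (Matrix.map_mul (f := g.toRingHom)).symm.trans h3
  rw [h1] at h2
  rw [← hM a aA ha, ← hM b bA hb, ← Matrix.map_mul, ← Matrix.map_mul] at h2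
  rw [Matrix.sub_apply, map_sub, map_sub, sub_eq_zero]
  exact congrArg (fun M : Matrix (Fin k) (Fin m) _ => M i j) h2

variable [Module.FaithfullyFlat R R']

/-- Descent data of finite projective modules over truncated Witt vectors are effective. -/
theorem Datum.exists_descent (hp : IsNilpotent (p : R)) (D : Datum p n R R' k) :
    ∃ (m : ℕ) (e : Matrix (Fin m) (Fin m) (TruncatedWittVector p n R))
      (U : Matrix (Fin k) (Fin m) (TruncatedWittVector p n R'))
      (V : Matrix (Fin m) (Fin k) (TruncatedWittVector p n R')),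
      e * e = e ∧ U * V = D.f ∧ V * U = e.map (WittGrp.truncMap p n (algebraMap R R')) ∧
      U * e.map (WittGrp.truncMap p n (algebraMap R R')) = U ∧
      e.map (WittGrp.truncMap p n (algebraMap R R')) * V = V ∧
      ∀ (T : Type u) [CommRing T] (a b : R' →+* T)
        (h : a.comp (algebraMap R R') = b.comp (algebraMap R R')),
        D.G T a b h * U.map (WittGrp.truncMap p n a) = U.map (WittGrp.truncMap p n b) := by
  rcases Nat.eq_zero_or_pos n with rfl | hn
  · have : ∀ (T : Type u) [CommRing T], Subsingleton (TruncatedWittVector p 0 T) := fun T _ =>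
      ⟨fun x y => TruncatedWittVector.ext fun i => i.elim0⟩
    exact ⟨k, 0, 0, 0, Subsingleton.elim _ _, Subsingleton.elim _ _, Subsingleton.elim _ _,
      Subsingleton.elim _ _, Subsingleton.elim _ _, fun T _ _ _ _ => Subsingleton.elim _ _⟩
  obtain ⟨m, ē, Ū, Vb, hē, hUV, hVU, hUe, heV, hH⟩ :=
    exists_level_one (A := RedBase p R) (S := RedCover p R R') (fun T _ _ a b => D.bar p hn T a b)
      (fun T _ _ a b c => D.bar_coc p hn T a b c) (fun T T' _ _ _ _ g a b => D.bar_nat p hn T T' g a b)
  let φ := (Ideal.Quotient.mk (Ideal.span {(p : R)})).comp (comp0 p (n := n) hn R)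
  let φ' := (redCover p (R := R)).comp (comp0 p (n := n) hn R')
  have hφ : Function.Surjective φ := Ideal.Quotient.mk_surjective.comp (comp0_surjective p hn R)
  have hφ' : Function.Surjective φ' :=
    (redCover_surjective p).comp (comp0_surjective p hn R')
  choose M hM using fun i j => hφ (ē i j)
  have hker : ∀ w, φ w = 0 → w ∈ E p n R 0 1 := fun w hw =>
    mem_E01 p hn (Ideal.Quotient.eq_zero_iff_mem.1 hw)
  obtain ⟨e, he, heM⟩ := Groth.Agent.FiltProjLib.exists_idem_lift (L := RingHom.ker φ) (K' := ⊥)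
    bot_le (fun w hw => by
      obtain ⟨N, hN⟩ := isNilpotent_of_mem p hp (hker w hw)
      exact ⟨N, Ideal.mem_bot.2 hN⟩) (Matrix.of M) fun i j => by
    have : φ.mapMatrix (Matrix.of M * Matrix.of M - Matrix.of M) = 0 := by
      rw [map_sub, map_mul, show φ.mapMatrix (Matrix.of M) = ē from Matrix.ext hM, hē, sub_self]
    exact congrArg (fun Z : Matrix (Fin m) (Fin m) _ => Z i j) this
  have he2 : e * e = e := sub_eq_zero.1 (Matrix.ext fun i j => (Ideal.mem_bot).1 (he i j))
  have hφe : e.map φ = ē := Matrix.ext fun i j => by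
    rw [Matrix.map_apply, ← hM i j, ← sub_eq_zero, ← map_sub]
    exact heM i j
  let e' := e.map (WittGrp.truncMap p n (algebraMap R R'))
  have he' : e'.map φ' = ē.map (algebraMap (RedBase p R) (RedCover p R R')) := by
    rw [← hφe]
    exact Matrix.ext fun i j => by
      change redCover p (comp0 p hn R' (WittGrp.truncMap p n _ (e i j))) = _
      rw [comp0_truncMap, redCover_algebraMap]
      rfl
  have he'2 : e' * e' = e' := by rw [← Matrix.map_mul, he2]
  have hf : D.f.map φ' = Ū * Vb := by
    rw [hUV, Datum.bar, D.self, map_comp0_truncMap]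
    rfl
  choose U₀ hU₀ using fun i j => hφ' (Ū i j)
  choose V₀ hV₀ using fun i j => hφ' (Vb i j)
  let U₁ := D.f * Matrix.of U₀ * e'
  let V₁ := e' * Matrix.of V₀ * D.f
  have hUVU : Ū * Vb * Ū = Ū := by rw [Matrix.mul_assoc, hVU, hUe]
  have hU₁ : U₁.map φ' = Ū := by
    simp only [U₁, Matrix.map_mul, he', hf, show (Matrix.of U₀).map φ' = Ū from Matrix.ext hU₀,
      hUVU, hUe]
  have hV₁ : V₁.map φ' = Vb := by
    simp only [V₁, Matrix.map_mul, he', hf, show (Matrix.of V₀).map φ' = Vb from Matrix.ext hV₀,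
      heV]
    rw [← Matrix.mul_assoc, hVU, heV]
  have hker' : ∀ w, φ' w = 0 → IsNilpotent w := fun w hw => by
    have hp' : IsNilpotent (p : R') := map_natCast (algebraMap R R') p ▸ hp.map (algebraMap R R')
    exact isNilpotent_of_mem p hp' (mem_E01 p hn ((redCover_eq_zero p).1 hw))
  obtain ⟨V₂, hV₂U, hUV₂, heV₂, hV₂f⟩ := exists_inv (f := D.f) (g := e') (U := U₁) (V := V₁)
    D.f_mul_f he'2 (by simp only [U₁, ← Matrix.mul_assoc, D.f_mul_f])
    (by simp only [U₁, Matrix.mul_assoc, he'2]) (by simp only [V₁, ← Matrix.mul_assoc, he'2])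
    (by simp only [V₁, Matrix.mul_assoc, D.f_mul_f])
    (fun i j => hker' _ (by
      have : (e' - V₁ * U₁).map φ' = 0 := by
        rw [Matrix.map_sub _ (map_sub φ'), Matrix.map_mul, hU₁, hV₁, he', hVU, sub_self]
      exact congrArg (fun Z : Matrix (Fin m) (Fin m) _ => Z i j) this))
    (fun i j => hker' _ (by
      have : (D.f - U₁ * V₁).map φ' = 0 := by
        rw [Matrix.map_sub _ (map_sub φ'), Matrix.map_mul, hU₁, hV₁, hf, sub_self]
      exact congrArg (fun Z : Matrix (Fin k) (Fin k) _ => Z i j) this))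
  let D' := D.conj p e' U₁ V₂ hUV₂ hV₂U hV₂f
  have hU₁' : (U₁.map (comp0 p hn R')).map (redCover p) = Ū := by rw [Matrix.map_map]; exact hU₁
  have hG : ∀ (T : Type u) [CommRing T] (a b : R' →+* T)
      (h : a.comp (algebraMap R R') = b.comp (algebraMap R R')) (l r : Fin m),
      (D'.G T a b h - D'.f.map (WittGrp.truncMap p n b)) l r ∈ E p n T 0 1 := by
    intro T _ a b h l r
    change (V₂.map (WittGrp.truncMap p n b) * D.G T a b h * U₁.map (WittGrp.truncMap p n a) -
      e'.map (WittGrp.truncMap p n b)) l r ∈ _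
    rw [Matrix.mul_assoc, show e'.map (WittGrp.truncMap p n b) =
      V₂.map (WittGrp.truncMap p n b) * U₁.map (WittGrp.truncMap p n b) by rw [← Matrix.map_mul, hV₂U],
      ← Matrix.mul_sub]
    exact mul_entries_left _ (fun i j => D.comp0_glue p hn Ū hH U₁ hU₁' T a b h i j) l r
  obtain ⟨X, hfX, hXf, hX, hGX⟩ := D'.exists_corrected p e rfl hG hn hp
  have hnil : ∀ i j, IsNilpotent ((e' - X) i j) := fun i j => by
    have hp' : IsNilpotent (p : R') := map_natCast (algebraMap R R') p ▸ hp.map (algebraMap R R')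
    rw [← neg_sub X e', Matrix.neg_apply]
    exact (isNilpotent_of_mem p hp' (hX i j)).neg
  obtain ⟨Y, hYX, hXY, heY, hYe⟩ := exists_inv (f := e') (g := e') (U := X) (V := e') he'2 he'2 hfX
    hXf he'2 he'2 (fun i j => by rw [show e' * X = X from hfX]; exact hnil i j)
    (fun i j => by rw [show X * e' = X from hXf]; exact hnil i j)
  have hU₁e : U₁ * e' = U₁ := by simp only [U₁, Matrix.mul_assoc, he'2]
  refine ⟨m, e, U₁ * X, Y * V₂, he2, ?_, ?_, ?_, ?_, fun T _ a b h => ?_⟩
  · rw [Matrix.mul_assoc, ← Matrix.mul_assoc X, hXY, heV₂, hUV₂]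
  · rw [Matrix.mul_assoc, ← Matrix.mul_assoc V₂, hV₂U, show e' * X = X from hfX, hYX]
  · rw [Matrix.mul_assoc]
    exact congrArg (U₁ * ·) hXf
  · rw [← Matrix.mul_assoc]
    exact congrArg (· * V₂) heY
  · refine D.glue_of_univ p (U₁ * X) ?_ T a b h
    have h3 := congrArg (fun M : Matrix (Fin m) (Fin m) _ => U₁.map (WittGrp.truncMap p n
      ((Algebra.TensorProduct.includeRight : R' →ₐ[R] R' ⊗[R] R') : R' →+* R' ⊗[R] R')) * M) hGX
    simp only [D', Datum.conj, ← Matrix.mul_assoc, ← Matrix.map_mul, hUV₂, D.f_mul_G] at h3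
    rw [Matrix.map_mul]
    exact (Matrix.mul_assoc _ _ _).symm.trans h3

end Groth.Agent.WittDescLib
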