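import Mathlib
import Groth.Prelude.Def_W4c3truncdispsmoothDesc
import Groth.Agent.WittDescLib.Effective
import Groth.Agent.WittDescLib.DescCat
import Groth.Agent.WittDescLib.DescIso

/-!
Effective descent of finite projective modules over truncated Witt vectors.
-/

set_option autoImplicit false
universe u

open CategoryTheory Opposite

namespace Groth.Agent.WittDescLib

set_option maxHeartbeats 400000

variable (p : ℕ) [Fact p.Prime] (n : ℕ) (R R' : Type u) [CommRing R] [CommRing R'] [Algebra R R']

/-- The cover, as a morphism of rings. -/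
noncomputable abbrev coverHom : CommRingCat.of R ⟶ CommRingCat.of R' := CommRingCat.ofHom (algebraMap R R')

theorem coverHom_cond {T : Type u} [CommRing T] (a b : R' →+* T)
    (h : a.comp (algebraMap R R') = b.comp (algebraMap R R')) :
    coverHom R R' ≫ CommRingCat.ofHom a = coverHom R R' ≫ CommRingCat.ofHom b :=
  CommRingCat.hom_ext h

variable (D : (modPF (W4c3truncdispsmooth.wittTrunc.{u} p n)).DescentData
    (fun _ : PUnit.{u + 1} => (coverHom R R').op))
  {k : ℕ} (π : (Fin k → (W4c3truncdispsmooth.wittTrunc.{u} p n).obj (CommRingCat.of R')) →ₗ[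
      (W4c3truncdispsmooth.wittTrunc.{u} p n).obj (CommRingCat.of R')] dObj (W4c3truncdispsmooth.wittTrunc.{u} p n) (coverHom R R') D)
  (σ : dObj (W4c3truncdispsmooth.wittTrunc.{u} p n) (coverHom R R') D →ₗ[(W4c3truncdispsmooth.wittTrunc.{u} p n).obj (CommRingCat.of R')]
      (Fin k → (W4c3truncdispsmooth.wittTrunc.{u} p n).obj (CommRingCat.of R')))
  (hπσ : π ∘ₗ σ = LinearMap.id)

/-- The matrix datum of a descent datum. -/
noncomputable def toDatum : Datum p n R R' k where
  f := fmat (W4c3truncdispsmooth.wittTrunc.{u} p n) (coverHom R R') D π σ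
  G _ _ a b h := gmat (W4c3truncdispsmooth.wittTrunc.{u} p n) (coverHom R R') D π σ (CommRingCat.ofHom a) (CommRingCat.ofHom b)
    (coverHom_cond R R' a b h)
  self _ _ a := gmat_self (W4c3truncdispsmooth.wittTrunc.{u} p n) (coverHom R R') D π σ (CommRingCat.ofHom a)
  cocycle _ _ a b c hab hbc := gmat_cocycle (W4c3truncdispsmooth.wittTrunc.{u} p n) (coverHom R R') D π σ hπσ (CommRingCat.ofHom a)
    (CommRingCat.ofHom b) (CommRingCat.ofHom c) (coverHom_cond R R' a b hab) (coverHom_cond R R' b c hbc)
  natural _ _ _ _ g a b a' b' ha hb h h' := gmat_natural (W4c3truncdispsmooth.wittTrunc.{u} p n) (coverHom R R') D π σ (CommRingCat.ofHom g)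
    (CommRingCat.ofHom a) (CommRingCat.ofHom b) (CommRingCat.ofHom a') (CommRingCat.ofHom b')
    (CommRingCat.hom_ext ha) (CommRingCat.hom_ext hb) (coverHom_cond R R' a b h)
    (coverHom_cond R R' a' b' h')

include hπσ in
theorem exists_descended [Module.FaithfullyFlat R R'] (hp : IsNilpotent (p : R)) :
    ∃ M : ModuleCat.{u} ((W4c3truncdispsmooth.wittTrunc.{u} p n).obj (CommRingCat.of R)),
      Module.Finite ((W4c3truncdispsmooth.wittTrunc.{u} p n).obj (CommRingCat.of R)) M ∧
      Module.Projective ((W4c3truncdispsmooth.wittTrunc.{u} p n).obj (CommRingCat.of R)) M ∧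
        Nonempty (((modPF (W4c3truncdispsmooth.wittTrunc.{u} p n)).toDescentData
          (fun _ : PUnit.{u + 1} => (coverHom R R').op)).obj M ≅ D) := by
  obtain ⟨m, e, U, V, he, hUV, hVU, hUe, -, hG⟩ :=
    (toDatum p n R R' D π σ hπσ).exists_descent p hp
  obtain ⟨M, s, hfin, hproj, i₀, hi₀⟩ := exists_base_iso
    ((W4c3truncdispsmooth.wittTrunc.{u} p n).map (coverHom R R')).hom π σ hπσ e U V he hUV hVU hUe
  exact ⟨M, hfin, hproj, exists_datum_iso (W4c3truncdispsmooth.wittTrunc.{u} p n) (coverHom R R') D π σ hπσ U s i₀ hi₀ fun T a b h =>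
    hG T a.hom b.hom (congrArg CommRingCat.Hom.hom h)⟩

end Groth.Agent.WittDescLib
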