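import Mathlib
import Groth.Prelude.Def_WittGrp

/-!
`W_n` and `W` turn the Amitsur equalizer of a faithfully flat map into an equalizer.
-/

set_option autoImplicit false
universe u v w

open TensorProduct

namespace Groth.Agent.WittDescLib

variable {R R' : Type u} [CommRing R] [CommRing R'] [Algebra R R'] [Module.FaithfullyFlat R R']

theorem exists_of_amitsur {x : R'} (h : x ⊗ₜ[R] (1 : R') = (1 : R') ⊗ₜ[R] x) :
    ∃ y : R, algebraMap R R' y = x := by
  refine ((Algebra.IsEffective.of_faithfullyFlat (R := R) (S := R')) x).1 ?_
  rw [Algebra.TensorProduct.includeLeftSubRight_apply, h, sub_self]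

variable (p : ℕ) [Fact p.Prime]

theorem exists_of_amitsur_witt {x : WittVector p R'}
    (h : WittVector.map (Algebra.TensorProduct.includeLeftRingHom : R' →+* R' ⊗[R] R') x =
      WittVector.map ((Algebra.TensorProduct.includeRight : R' →ₐ[R] R' ⊗[R] R') : R' →+* R' ⊗[R] R') x) :
    ∃ y : WittVector p R, WittVector.map (algebraMap R R') y = x := by
  have h' : ∀ i, ∃ y : R, algebraMap R R' y = x.coeff i := fun i => exists_of_amitsur (by
    have := congrArg (fun z => WittVector.coeff z i) h
    simp only [WittVector.map_coeff] at this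
    exact this)
  choose y hy using h'
  exact ⟨WittVector.mk p y, WittVector.ext fun i => by rw [WittVector.map_coeff]; exact hy i⟩

theorem exists_of_amitsur_trunc {n : ℕ} {x : TruncatedWittVector p n R'}
    (h : WittGrp.truncMap p n (Algebra.TensorProduct.includeLeftRingHom : R' →+* R' ⊗[R] R') x =
      WittGrp.truncMap p n
        ((Algebra.TensorProduct.includeRight : R' →ₐ[R] R' ⊗[R] R') : R' →+* R' ⊗[R] R') x) :
    ∃ y : TruncatedWittVector p n R, WittGrp.truncMap p n (algebraMap R R') y = x := by
  have h' : ∀ i, ∃ y : R, algebraMap R R' y = x.coeff i := fun i => exists_of_amitsur (by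
    have := congrArg (fun z => TruncatedWittVector.coeff i z) h
    simp only [WittGrp.coeff_truncMap] at this
    exact this)
  choose y hy using h'
  exact ⟨TruncatedWittVector.mk p y,
    TruncatedWittVector.ext fun i => by rw [WittGrp.coeff_truncMap, TruncatedWittVector.coeff_mk]; exact hy i⟩

theorem witt_map_injective : Function.Injective (WittVector.map (p := p) (algebraMap R R')) :=
  WittVector.map_injective _ (FaithfulSMul.algebraMap_injective R R')

theorem truncMap_injective (n : ℕ) :
    Function.Injective (WittGrp.truncMap p n (algebraMap R R')) := fun x y h =>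
  TruncatedWittVector.ext fun i => FaithfulSMul.algebraMap_injective R R' (by
    simpa only [WittGrp.coeff_truncMap] using congrArg (fun z => TruncatedWittVector.coeff i z) h)

/-- A flat module preserves an equalizer of algebra maps. -/
theorem exists_of_equalizer {A B C : Type u} [CommRing A] [CommRing B] [CommRing C] [Algebra A B]
    [Algebra A C] (φ ψ : B →ₗ[A] C) (hex : ∀ b, φ b = ψ b → ∃ a, algebraMap A B a = b)
    (h1 : φ 1 = ψ 1)
    {M : Type v} [AddCommGroup M] [Module A M] [Module.Flat A M] (x : M ⊗[A] B)
    (hx : φ.lTensor M x = ψ.lTensor M x) : ∃ m : M, m ⊗ₜ[A] (1 : B) = x := by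
  have he : Function.Exact (Algebra.linearMap A B) (φ - ψ) := fun b => by
    constructor
    · intro hb
      exact hex b (sub_eq_zero.1 hb)
    · rintro ⟨a, rfl⟩
      rw [LinearMap.sub_apply, Algebra.linearMap_apply, Algebra.algebraMap_eq_smul_one, map_smul,
        map_smul, h1, sub_self]
  have he' := Module.Flat.lTensor_exact M he
  obtain ⟨w, hw⟩ := (he' x).1 (by rw [LinearMap.lTensor_sub, LinearMap.sub_apply, hx, sub_self])
  refine ⟨TensorProduct.rid A M w, ?_⟩
  rw [← hw]
  clear hw hx
  induction w using TensorProduct.induction_on with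
  | zero => simp
  | add a b ha hb => rw [map_add, add_tmul, ha, hb, map_add]
  | tmul m a => simp [Algebra.algebraMap_eq_smul_one, TensorProduct.smul_tmul]

theorem tmul_one_injective {A B : Type u} [CommRing A] [CommRing B] [Algebra A B]
    (hinj : Function.Injective (algebraMap A B))
    {M : Type v} [AddCommGroup M] [Module A M] [Module.Flat A M] :
    Function.Injective (fun m : M => m ⊗ₜ[A] (1 : B)) := fun m m' h => by
  have h' := Module.Flat.lTensor_preserves_injective_linearMap (M := M) (Algebra.linearMap A B) hinj
    (a₁ := m ⊗ₜ 1) (a₂ := m' ⊗ₜ 1) (by simpa using h)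
  simpa using congrArg (TensorProduct.rid A M) h'

end Groth.Agent.WittDescLib
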