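import Mathlib
import Groth.Agent.WittDescLib.Basic
import Groth.Agent.WittDescLib.Cat
import Groth.Agent.WittDescLib.IsoMk

/-!
Canonical descent data of flat modules along a map satisfying the equalizer condition are fully faithful.
-/

set_option autoImplicit false
universe u

open CategoryTheory Opposite TensorProduct

namespace Groth.Agent.WittDescLib

set_option maxHeartbeats 400000

section Abstract

variable {A B C : Type u} [CommRing A] [CommRing B] [CommRing C] (φ : A →+* B) {g₁ g₂ : B →+* C}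
  {ψ : A →+* C} {M N : ModuleCat.{u} A}

theorem et_one_injective (hinj : Function.Injective φ) [Module.Flat A N] :
    Function.Injective (fun x : N => et φ N 1 x) := fun x y h => by
  let := φ.toAlgebra
  refine tmul_one_injective (A := A) (B := B) (M := N) hinj ?_
  exact congrArg (TensorProduct.comm A B N) h

theorem exists_et_eq (hg₁ : g₁.comp φ = ψ) (hg₂ : g₂.comp φ = ψ)
    (hex : ∀ b, g₁ b = g₂ b → ∃ a, φ a = b) [Module.Flat A N]
    (e₁ : (ModuleCat.extendScalars ψ).obj N ≅
      (ModuleCat.extendScalars g₁).obj ((ModuleCat.extendScalars φ).obj N))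
    (e₂ : (ModuleCat.extendScalars ψ).obj N ≅
      (ModuleCat.extendScalars g₂).obj ((ModuleCat.extendScalars φ).obj N))
    (he₁ : ∀ x : N, e₁.hom (et ψ N 1 x) = et g₁ ((ModuleCat.extendScalars φ).obj N) 1 (et φ N 1 x))
    (he₂ : ∀ x : N, e₂.hom (et ψ N 1 x) = et g₂ ((ModuleCat.extendScalars φ).obj N) 1 (et φ N 1 x))
    (y : (ModuleCat.extendScalars φ).obj N)
    (hy : e₁.inv (et g₁ ((ModuleCat.extendScalars φ).obj N) 1 y) =
      e₂.inv (et g₂ ((ModuleCat.extendScalars φ).obj N) 1 y)) :
    ∃ x, et φ N 1 x = y := by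
  let := φ.toAlgebra
  let := ψ.toAlgebra
  let l : ∀ g : B →+* C, g.comp φ = ψ → (B →ₗ[A] C) := fun g hg =>
    { toFun := g
      map_add' := map_add g
      map_smul' := fun a b => by
        rw [Algebra.smul_def, map_mul, RingHom.id_apply, Algebra.smul_def]
        exact congrArg (· * g b) (RingHom.congr_fun hg a) }
  have key : ∀ (g : B →+* C) (hg : g.comp φ = ψ)
      (e : (ModuleCat.extendScalars ψ).obj N ≅
        (ModuleCat.extendScalars g).obj ((ModuleCat.extendScalars φ).obj N)),
      (∀ x : N, e.hom (et ψ N 1 x) = et g ((ModuleCat.extendScalars φ).obj N) 1 (et φ N 1 x)) →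
      ∀ y, (l g hg).lTensor N (TensorProduct.comm A B N y) =
        TensorProduct.comm A C N (e.inv (et g ((ModuleCat.extendScalars φ).obj N) 1 y)) := by
    intro g hg e he y
    induction y using et_induction with
    | h0 =>
      rw [et_zero, map_zero e.inv.hom]
      exact ((congrArg _ (map_zero (TensorProduct.comm A B N))).trans (map_zero _)).trans
        (map_zero (TensorProduct.comm A C N)).symm
    | hadd u v hu hv =>
      rw [et_add, map_add e.inv.hom]
      exact ((congrArg _ (map_add (TensorProduct.comm A B N) u v)).trans (map_add _ _ _)).trans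
        ((congrArg₂ (· + ·) hu hv).trans (map_add (TensorProduct.comm A C N) _ _).symm)
    | ht b x =>
      rw [inv_et φ N g ψ e he, one_mul]
      rfl
  obtain ⟨x, hx⟩ := exists_of_equalizer (l g₁ hg₁) (l g₂ hg₂) (fun b hb => hex b hb)
    ((map_one g₁).trans (map_one g₂).symm) (TensorProduct.comm A B N y)
    ((key g₁ hg₁ e₁ he₁ y).trans ((congrArg _ hy).trans (key g₂ hg₂ e₂ he₂ y).symm))
  exact ⟨x, (TensorProduct.comm A B N).injective hx⟩

theorem inv_eq_of_comm
    (h : (ModuleCat.extendScalars φ).obj M ⟶ (ModuleCat.extendScalars φ).obj N)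
    (eM₁ : (ModuleCat.extendScalars ψ).obj M ≅
      (ModuleCat.extendScalars g₁).obj ((ModuleCat.extendScalars φ).obj M))
    (eM₂ : (ModuleCat.extendScalars ψ).obj M ≅
      (ModuleCat.extendScalars g₂).obj ((ModuleCat.extendScalars φ).obj M))
    (eN₁ : (ModuleCat.extendScalars ψ).obj N ≅
      (ModuleCat.extendScalars g₁).obj ((ModuleCat.extendScalars φ).obj N))
    (eN₂ : (ModuleCat.extendScalars ψ).obj N ≅
      (ModuleCat.extendScalars g₂).obj ((ModuleCat.extendScalars φ).obj N))
    (heM₁ : ∀ x : M, eM₁.hom (et ψ M 1 x) = et g₁ ((ModuleCat.extendScalars φ).obj M) 1 (et φ M 1 x))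
    (heM₂ : ∀ x : M, eM₂.hom (et ψ M 1 x) = et g₂ ((ModuleCat.extendScalars φ).obj M) 1 (et φ M 1 x))
    (hh : (ModuleCat.extendScalars g₁).map h ≫ (eN₁.inv ≫ eN₂.hom) =
      (eM₁.inv ≫ eM₂.hom) ≫ (ModuleCat.extendScalars g₂).map h) (x : M) :
    eN₁.inv (et g₁ ((ModuleCat.extendScalars φ).obj N) 1 (h (et φ M 1 x))) =
      eN₂.inv (et g₂ ((ModuleCat.extendScalars φ).obj N) 1 (h (et φ M 1 x))) := by
  have h1 := congrArg (fun k => k.hom (et g₁ ((ModuleCat.extendScalars φ).obj M) 1 (et φ M 1 x))) hh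
  simp only [ModuleCat.hom_comp, LinearMap.comp_apply] at h1
  rw [map_et, ← heM₁, eM₁.hom_inv_id_apply, heM₂, map_et] at h1
  rw [← h1, eN₂.hom_inv_id_apply]

end Abstract

variable (W : CommRingCat.{u} ⥤ CommRingCat.{u}) {X Y T : CommRingCat.{u}} (f : X ⟶ Y)
  (a b : Y ⟶ T) (q : X ⟶ T) (ha : f ≫ a = q) (hb : f ≫ b = q)
  {M N : ModuleCat.{u} (W.obj X)}

theorem conv_comm (h : (ModuleCat.extendScalars (W.map f).hom).obj M ⟶
      (ModuleCat.extendScalars (W.map f).hom).obj N)
    (h' : (((modPF W).toDescentData (fun _ : PUnit.{u + 1} => f.op)).obj M).obj PUnit.unit ⟶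
      (((modPF W).toDescentData (fun _ : PUnit.{u + 1} => f.op)).obj N).obj PUnit.unit) (e : h' = h) :
    ((ModuleCat.extendScalars (W.map a).hom).map h ≫ ((cmp W f a q ha N).inv ≫ (cmp W f b q hb N).hom) =
      ((cmp W f a q ha M).inv ≫ (cmp W f b q hb M).hom) ≫ (ModuleCat.extendScalars (W.map b).hom).map h) =
    (((modPF W).map a.op.op.toLoc).toFunctor.map h' ≫
      (((modPF W).mapComp' f.op.op.toLoc a.op.op.toLoc q.op.op.toLoc
          (toLoc_cond f a q ha)).inv.toNatTrans.app N ≫
        ((modPF W).mapComp' f.op.op.toLoc b.op.op.toLoc q.op.op.toLoc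
          (toLoc_cond f b q hb)).hom.toNatTrans.app N) =
      (((modPF W).mapComp' f.op.op.toLoc a.op.op.toLoc q.op.op.toLoc
          (toLoc_cond f a q ha)).inv.toNatTrans.app M ≫
        ((modPF W).mapComp' f.op.op.toLoc b.op.op.toLoc q.op.op.toLoc
          (toLoc_cond f b q hb)).hom.toNatTrans.app M) ≫
      ((modPF W).map b.op.op.toLoc).toFunctor.map h') := by
  subst e
  rfl

theorem comm_pseudofunctor (G : Pseudofunctor (LocallyDiscrete (CommRingCat.{u}ᵒᵖ)ᵒᵖ) Cat.{u, u + 1})
    {M N : G.obj (.mk (op (op X)))}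
    (g : (G.toDescentData (fun _ : PUnit.{u + 1} => f.op)).obj M ⟶
      (G.toDescentData (fun _ : PUnit.{u + 1} => f.op)).obj N)
    (ha : f ≫ a = q) (hb : f ≫ b = q) :
    (G.map a.op.op.toLoc).toFunctor.map (g.hom PUnit.unit) ≫
      ((G.mapComp' f.op.op.toLoc a.op.op.toLoc q.op.op.toLoc
          (toLoc_cond f a q ha)).inv.toNatTrans.app N ≫
        (G.mapComp' f.op.op.toLoc b.op.op.toLoc q.op.op.toLoc
          (toLoc_cond f b q hb)).hom.toNatTrans.app N) =
      ((G.mapComp' f.op.op.toLoc a.op.op.toLoc q.op.op.toLoc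
          (toLoc_cond f a q ha)).inv.toNatTrans.app M ≫
        (G.mapComp' f.op.op.toLoc b.op.op.toLoc q.op.op.toLoc
          (toLoc_cond f b q hb)).hom.toNatTrans.app M) ≫
      (G.map b.op.op.toLoc).toFunctor.map (g.hom PUnit.unit) :=
  comm_ofObj₁ G f.op g q.op a.op b.op (congrArg Quiver.Hom.op ha) (congrArg Quiver.Hom.op hb)
    (toLoc_cond f a q ha) (toLoc_cond f b q hb)

include ha hb in
theorem exists_et_of_hom (hex : ∀ y, W.map a y = W.map b y → ∃ x, W.map f x = y)
    [Module.Flat (W.obj X) N]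
    (g : ((modPF W).toDescentData (fun _ : PUnit.{u + 1} => f.op)).obj M ⟶
      ((modPF W).toDescentData (fun _ : PUnit.{u + 1} => f.op)).obj N)
    (h : (ModuleCat.extendScalars (W.map f).hom).obj M ⟶ (ModuleCat.extendScalars (W.map f).hom).obj N)
    (hgh : g.hom PUnit.unit = h) (x : M) :
    ∃ y : N, et (W.map f).hom N 1 y = h (et (W.map f).hom M 1 x) := by
  have hc : (ModuleCat.extendScalars (W.map a).hom).map h ≫
          ((cmp W f a q ha N).inv ≫ (cmp W f b q hb N).hom) =
        ((cmp W f a q ha M).inv ≫ (cmp W f b q hb M).hom) ≫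
          (ModuleCat.extendScalars (W.map b).hom).map h :=
    (conv_comm W f a b q ha hb h (g.hom PUnit.unit) hgh).mpr
      (comm_pseudofunctor f a b q (modPF W) g ha hb)
  have hc1 : ((W.map a).hom).comp (W.map f).hom = (W.map q).hom := by
    rw [← ha, W.map_comp]; rfl
  have hc2 : ((W.map b).hom).comp (W.map f).hom = (W.map q).hom := by
    rw [← hb, W.map_comp]; rfl
  exact exists_et_eq (W.map f).hom hc1 hc2 hex (cmp W f a q ha N) (cmp W f b q hb N)
    (cmp_et W f a q ha N) (cmp_et W f b q hb N) _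
    (inv_eq_of_comm (W.map f).hom h (cmp W f a q ha M) (cmp W f b q hb M) (cmp W f a q ha N)
      (cmp W f b q hb N) (cmp_et W f a q ha M) (cmp_et W f b q hb M) hc x)

theorem map_injective (hinj : Function.Injective (W.map f)) [Module.Flat (W.obj X) N] :
    Function.Injective (fun φ : M ⟶ N =>
      ((modPF W).toDescentData (fun _ : PUnit.{u + 1} => f.op)).map φ) := fun φ ψ h => by
  refine ModuleCat.hom_ext (LinearMap.ext fun x => et_one_injective (W.map f).hom hinj ?_)
  have h1 := congrArg (fun k => k.hom PUnit.unit) h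
  exact congrArg (fun k : (ModuleCat.extendScalars (W.map f).hom).obj M ⟶
    (ModuleCat.extendScalars (W.map f).hom).obj N => k (et (W.map f).hom M 1 x)) h1

theorem exists_lift (hinj : Function.Injective (W.map f)) [Module.Flat (W.obj X) N]
    (h : (ModuleCat.extendScalars (W.map f).hom).obj M ⟶ (ModuleCat.extendScalars (W.map f).hom).obj N)
    (hx : ∀ x : M, ∃ y : N, et (W.map f).hom N 1 y = h (et (W.map f).hom M 1 x)) :
    ∃ φ : M ⟶ N, (ModuleCat.extendScalars (W.map f).hom).map φ = h := by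
  choose n hn using hx
  have hinj' := et_one_injective (N := N) (W.map f).hom hinj
  let φ : M →ₗ[W.obj X] N :=
      { toFun := n
        map_add' := fun x y => hinj' (by
          show et _ N 1 (n (x + y)) = et _ N 1 (n x + n y)
          rw [et_add, hn, hn, hn, et_add, map_add])
        map_smul' := fun r x => hinj' (by
          show et _ N 1 (n (r • x)) = et _ N 1 (r • n x)
          rw [hn, et_smul, et_eq_smul, map_smul, ← hn, ← et_eq_smul, et_smul]) }
  exact ⟨ModuleCat.ofHom φ, hom_ext_et (W.map f).hom fun x =>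
    (map_et (W.map f).hom (ModuleCat.ofHom φ) 1 x).trans (hn x)⟩

theorem bijective_of_equalizer (hinj : Function.Injective (W.map f)) (hfa : f ≫ a = f ≫ b)
    (hex : ∀ y, W.map a y = W.map b y → ∃ x, W.map f x = y)
    [Module.Flat (W.obj X) N] :
    Function.Bijective (fun φ : M ⟶ N =>
      ((modPF W).toDescentData (fun _ : PUnit.{u + 1} => f.op)).map φ) := by
  refine ⟨map_injective W f hinj, fun g => ?_⟩
  obtain ⟨q, hq⟩ : ∃ q, f ≫ a = q := ⟨_, rfl⟩
  obtain ⟨φ, hφ⟩ := exists_lift W f hinj (g.hom PUnit.unit) fun x =>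
    exists_et_of_hom W f a b q hq (hfa.symm.trans hq) hex g (g.hom PUnit.unit) rfl x
  exact ⟨φ, Pseudofunctor.DescentData.hom_ext fun _ => hφ⟩

end Groth.Agent.WittDescLib
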