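import Mathlib
import Groth.Prelude.Def_W4c3truncdispsmoothDesc
import Groth.Agent.WittDescLib.Final
import Groth.Agent.WittDescLib.FullyFaithful

/-!
Descent data of finite projective modules over truncated Witt vectors: full faithfulness.
-/

set_option autoImplicit false
universe u

open CategoryTheory Opposite

namespace Groth.Agent.WittDescLib

set_option maxHeartbeats 400000

theorem bijective_map_congr (G G' : Pseudofunctor (LocallyDiscrete (CommRingCat.{u}ᵒᵖ)ᵒᵖ) Cat.{u, u + 1})
    {X Y : CommRingCat.{u}ᵒᵖ} (f f' : Y ⟶ X) (hG : G = G') (hf : f = f')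
    {M N : G.obj (.mk (op X))} {M' N' : G'.obj (.mk (op X))} (hM : M ≍ M') (hN : N ≍ N')
    (h : Function.Bijective (fun φ : M ⟶ N => (G.toDescentData (fun _ : PUnit.{u + 1} => f)).map φ)) :
    Function.Bijective (fun φ : M' ⟶ N' =>
      (G'.toDescentData (fun _ : PUnit.{u + 1} => f')).map φ) := by
  subst hG hf
  obtain rfl := eq_of_heq hM
  obtain rfl := eq_of_heq hN
  exact h

theorem bijective_toDescentData (p : ℕ) [Fact p.Prime] (n : ℕ) (R R' : Type u) [CommRing R]
    [CommRing R'] [Algebra R R'] [Module.FaithfullyFlat R R']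
    (M N : ModuleCat.{u} (TruncatedWittVector p n R))
    [hN : Module.Flat (TruncatedWittVector p n R) N] :
    Function.Bijective (fun φ : M ⟶ N =>
      ((W4c3truncdispsmooth.wittModPF.{u} p n).toDescentData
        (fun _ : PUnit.{u + 1} => (CommRingCat.ofHom (algebraMap R R')).op)).map φ) :=
  bijective_map_congr (modPF (W4c3truncdispsmooth.wittTrunc.{u} p n)) (W4c3truncdispsmooth.wittModPF.{u} p n)
    (coverHom R R').op (CommRingCat.ofHom (algebraMap R R')).op rfl rfl (M := M) (N := N) HEq.rfl HEq.rfl
  (@bijective_of_equalizer (W4c3truncdispsmooth.wittTrunc.{u} p n) _ _ _ (coverHom R R')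
    (CommRingCat.ofHom (Algebra.TensorProduct.includeLeftRingHom : R' →+* TensorProduct R R' R'))
    (CommRingCat.ofHom ((Algebra.TensorProduct.includeRight : R' →ₐ[R] TensorProduct R R' R') :
      R' →+* TensorProduct R R' R')) M N
    (truncMap_injective p n)
    (CommRingCat.hom_ext (RingHom.ext fun r => by simp))
    (fun _y hy => exists_of_amitsur_trunc p hy) hN)

end Groth.Agent.WittDescLib
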